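import Cfsg.Agent.Cit.Nil.RTwoM.NilZ

/-!
# S1309, (6b), (C3), `r = 2`, any `m`, `LAMBDA0`: (R0) (helper762, #19890)

* `AAS Om S = ⟨Z(t) : t ∈ T_S#⟩`; `TT_le_NZ`; `NZ_le_AAS`;
* `Ex4 Om S x p s` : the exceptional action `{1, I_b, p, p I_b}` of `T_S` on `R_x`;
* **`rzero`** : `x ∈ Z ∩ C(T_S)`, `C_{T_S}(R_x) = 1`: `x ∈ AAS Om S` or the exceptional action.
-/

set_option autoImplicit false
set_option linter.style.haveILetI false
set_option linter.unusedSectionVars false

namespace Cfsg.Agent.Cit.Nil.RTwoM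

open Subgroup Cfsg Cfsg.Agent.Cit

open RTwo (Q3)
open RG (WR CP Ov InO Tr)
open RI (CS)

variable {G : Type*} [Group G] {Om : Set (Subgroup G)} {K L M : Subgroup G} {D : Set G}
  {a b c d g g' k l m n p q r s t u v w x y z : G}

/-- `⟨Z(t) : t ∈ T_S#⟩` -/
def AAS (Om : Set (Subgroup G)) (S : Subgroup G) : Subgroup G :=
  closure {y | ∃ t ∈ TT Om S, t ≠ 1 ∧ y ∈ ZS Om t}

/-- the exceptional action `{1, I_b, p, p I_b}` of `T_S` on `R_x` : `s` acts as `I_b`, `p` is a swap -/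
structure Ex4 (Om : Set (Subgroup G)) (S : Subgroup G) (x p s : G) : Prop where
  pT : p ∈ TT Om S
  sT : s ∈ TT Om S
  swp : Swp Om x p
  s1 : s ≠ 1
  all : ∀ t ∈ TT Om S, t = 1 ∨ t = s ∨ t = p ∨ t = p * s
  as : ∀ K, Mem Om x K → ∃ a ∈ K, a * a = x ∧ As K s a ∧ As (cj p K) s (p * a * p⁻¹)

section Fin

variable [Finite G]

theorem NZ_le_AAS {S : Subgroup G} (ht : t ∈ TT Om S) (ht1 : t ≠ 1) : NZ Om t ≤ AAS Om S :=
  closure_mono fun _ hy => ⟨t, ht, ht1, hy⟩

/-- `T_S ≤ N_t` -/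
theorem TT_le_NZ (h : WM Om) {S : Subgroup G} (hS : IsPGroup 2 S) (ht : t ∈ TT Om S) : TT Om S ≤ NZ Om t :=
  closure_mono fun _ hz => CS_subset_ZS h hS ht hz

/-- `s ∈ T`, `r ∈ C_{R_x}(t)` : `[s, r] ∈ AAS` -/
theorem LJ_T (h : WM Om) {S : Subgroup G} (hS : IsPGroup 2 S) (hx : ∀ t ∈ TT Om S, t * x = x * t)
    (hs : s ∈ TT Om S) (ht : t ∈ TT Om S) (ht1 : t ≠ 1) (hr : r ∈ RZ Om x) (hrt : r * t = t * r) :
    s * r * s⁻¹ * r⁻¹ ∈ AAS Om S :=
  NZ_le_AAS ht ht1 (LJ h (TT_le_NZ h hS ht hs) (hx s hs) hr hrt).1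

theorem swp_mul_fix (h : WM Om) (hK : Mem Om x K) (hp : Swp Om x p) (hs : s * x = x * s) (hsK : cj s K = K) :
    Swp Om x (p * s) := by
  refine Swp.of_one h hK ?_ ?_
  · rw [mul_assoc, hs, ← mul_assoc, hp.1, mul_assoc]
  · rw [cj_mul, hsK]; exact hp.2 K hK

/-- a transposition and a swap in `T` : `x ∈ AAS` -/
theorem rzero_tr (h : WM Om) {S : Subgroup G} (hS : IsPGroup 2 S) (hK : Mem Om x K)
    (hx : ∀ t ∈ TT Om S, t * x = x * t) (hp : p ∈ TT Om S) (hsp : Swp Om x p) (ht : t ∈ TT Om S)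
    (htK : cj t K = K) (ha : Tr t K a) : x ∈ AAS Om S := by
  have haa := Tr.sq' ha hK
  have hxx := hK.inZ.z2 h
  have hsw' : Swp Om x (p * t) := swp_mul_fix h hK hsp (hx t ht) htK
  obtain ⟨b, hb, hbb, hba, hba'⟩ := hK.exists_off h ha.mem haa
  have hcom := ha.com b hb (by rw [hbb, hK.2]) hba hba'
  have htb : t * b * t⁻¹ ∈ K := by
    have := conj_mem_cj (g := t) hb
    rwa [htK] at this
  have key : ∀ p, p ∈ TT Om S → Swp Om x p → qq p a ∈ AAS Om S := by
    intro p hp hsw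
    have hpp := TT_sq h hS hp
    have htp := TT_comm h hS ht hp
    have hp1 : p ≠ 1 := by
      rintro rfl
      exact hsw.2 K hK (cj_one K)
    have h1 := LJ_T h hS hx ht hp hp1 (qq_mem hsw h hK hb) (qq_comm hsw h hpp hK hb).symm
    have h2 : t * qq p b * t⁻¹ = qq p (t * b * t⁻¹) := by
      rw [qq, qq]
      calc t * (b * (p * b * p⁻¹)) * t⁻¹ = (t * b * t⁻¹) * ((t * p) * b * (t * p)⁻¹) := by group
        _ = (t * b * t⁻¹) * ((p * t) * b * (p * t)⁻¹) := by rw [htp]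
        _ = _ := by group
    have h3 : t * qq p b * t⁻¹ * (qq p b)⁻¹ = qq p (t * b * t⁻¹ * b⁻¹) := by
      rw [h2, mul_inv_eq_iff_eq_mul, ← qq_mul hsw h hK (mul_mem htb (inv_mem hb)) hb, inv_mul_cancel_right]
    rw [h3] at h1
    rcases hcom with h4 | h4
    · rwa [h4] at h1
    · have h5 : qq p a⁻¹ = qq p a := by
        rw [hK.inv_eq h ha.mem haa, qq_mul hsw h hK (hK.zmem h) ha.mem, qq_z hsw hK.inZ h, one_mul]
      rwa [h4, h5] at h1
  have h1 := key p hp hsp
  have h2 := key (p * t) (mul_mem hp ht) hsw'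
  have h3 : qq (p * t) a = x * qq p a := by
    rw [qq, qq]
    calc a * (p * t * a * (p * t)⁻¹) = a * (p * (t * a * t⁻¹) * p⁻¹) := by group
      _ = a * (p * (x * a) * p⁻¹) := by rw [Tr.inv' ha hK h]
      _ = a * ((p * x) * a * p⁻¹) := by group
      _ = a * x * (p * a * p⁻¹) := by rw [hsp.1]; group
      _ = _ := by rw [hK.comm_z h ha.mem]; group
  rw [h3] at h2
  have := mul_mem h2 (inv_mem h1)
  rwa [mul_inv_cancel_right] at this

/-- a nontrivial element of `T` fixing `K` which acts as `y ∈ K` : `y² = x` -/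
theorem sq_of_as_T (h : WM Om) {S : Subgroup G} (hS : IsPGroup 2 S) (hK : Mem Om x K)
    (hT : ∀ t ∈ TT Om S, t ∈ CX Om x → t = 1) (hp : p ∈ TT Om S) (hsp : Swp Om x p) (ht : t ∈ TT Om S) (ht1 : t ≠ 1)
    (hy : As K t y) : y * y = x := by
  by_contra hcon
  apply ht1
  apply hT t ht
  have hL := hsp.mem h hK
  have hy' : As (cj p K) t (p * y * p⁻¹) := hy.conj_comm (TT_comm h hS hp ht)
  have h1 : y = 1 ∨ y = x := by
    rcases hK.sq_cases h hy.1 with h1 | h1 | h1
    · exact Or.inl h1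
    · exact Or.inr h1
    · exact absurd h1 hcon
  rw [mem_CX]
  intro M hM k hk
  rcases hK.cases hL h (hsp.ne hK) hM with rfl | rfl
  · have h2 := hy.2 k hk
    rcases h1 with h1 | h1
    · rw [h1, one_mul, inv_one, mul_one, mul_inv_eq_iff_eq_mul] at h2; exact h2
    · rw [h1, ← hM.comm_z h hk, mul_inv_cancel_right, mul_inv_eq_iff_eq_mul] at h2; exact h2
  · have h2 := hy'.2 k hk
    rcases h1 with h1 | h1
    · rw [h1, mul_one, mul_inv_cancel, one_mul, inv_one, mul_one, mul_inv_eq_iff_eq_mul] at h2; exact h2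
    · rw [h1, hsp.1, mul_inv_cancel_right, ← hM.comm_z h hk, mul_inv_cancel_right, mul_inv_eq_iff_eq_mul] at h2
      exact h2

/-- **(R0)** -/
theorem rzero (h : WM Om) (l0 : L0 Om) (an : ANT Om) (S : Sylow 2 G) (hx : InZ Om x)
    (hxT : ∀ t ∈ TT Om (S : Subgroup G), t * x = x * t)
    (hT : ∀ t ∈ TT Om (S : Subgroup G), t ∈ CX Om x → t = 1) (hz : z ∈ CS Om (S : Subgroup G))
    (hu : u ∈ CS Om (S : Subgroup G)) (hzu : z ≠ u) :
    x ∈ AAS Om (S : Subgroup G) ∨ ∃ p s, Ex4 Om (S : Subgroup G) x p s := by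
  obtain ⟨K, hK⟩ := hx
  have hS := S.isPGroup'
  have hxx := hK.inZ.z2 h
  have sq : ∀ {t : G}, t ∈ TT Om (S : Subgroup G) → t * t = 1 := fun ht => TT_sq h hS ht
  by_cases hsw : ∃ p ∈ TT Om (S : Subgroup G), Swp Om x p
  · obtain ⟨p, hp, hsp⟩ := hsw
    have hpp := sq hp
    have hL := hsp.mem h hK
    have hne := hsp.ne hK
    by_cases htr : ∃ t ∈ TT Om (S : Subgroup G), ∃ a, cj t K = K ∧ Tr t K a
    · obtain ⟨t, ht, a, htK, ha⟩ := htr
      exact Or.inl (rzero_tr h hS hK hxT hp hsp ht htK ha)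
    -- the elements fixing `K` are inner
    have has : ∀ t ∈ TT Om (S : Subgroup G), cj t K = K → ∃ y, As K t y := by
      intro t ht htK
      rcases h.wr.inn_or_tr hK.1 htK (sq ht) with ⟨y, hy, h1⟩ | ⟨a, ha⟩
      · exact ⟨y, hy, h1⟩
      · exact (htr ⟨t, ht, a, htK, ha⟩).elim
    -- `x q_p(y) ∈ AAS`
    have hq : ∀ {t y : G}, t ∈ TT Om (S : Subgroup G) → t ≠ 1 → As K t y → y * y = x →
        x * qq p y ∈ AAS Om (S : Subgroup G) := by
      intro t y ht ht1 hy hyy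
      have h1 := LJ_T h hS hxT hp ht ht1 (hK.le_RZ hy.1) hy.comm.symm
      have h2 : p * y * p⁻¹ * y⁻¹ = x * qq p y := by
        rw [hK.inv_eq h hy.1 hyy, qq, ← hsp.cm h hK (mul_mem (hK.zmem h) hy.1) hy.1, mul_assoc]
      rwa [h2] at h1
    by_cases h2 : ∃ s ∈ TT Om (S : Subgroup G), ∃ t ∈ TT Om (S : Subgroup G), s ≠ 1 ∧ t ≠ 1 ∧ s ≠ t ∧ cj s K = K ∧
        cj t K = K
    · left
      obtain ⟨s, hs, t, ht, hs1, ht1, hst, hsK, htK⟩ := h2
      obtain ⟨y, hy⟩ := has s hs hsK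
      obtain ⟨y', hy'⟩ := has t ht htK
      have hyy := sq_of_as_T h hS hK hT hp hsp hs hs1 hy
      have hyy' := sq_of_as_T h hS hK hT hp hsp ht ht1 hy'
      have hst1 : s * t ≠ 1 := fun h3 => hst (by
        rw [eq_inv_of_mul_eq_one_left h3, inv_eq_of_mul_eq_one_right (sq ht)])
      have hy3 := hy.mul hy'
      have hyy3 := sq_of_as_T h hS hK hT hp hsp (mul_mem hs ht) hst1 hy3
      have q1 := hq hs hs1 hy hyy
      have q2 := hq ht ht1 hy' hyy'
      have q3 := hq (mul_mem hs ht) hst1 hy3 hyy3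
      rw [qq_mul hsp h hK hy.1 hy'.1] at q3
      have h4 := mul_mem q1 q2
      have hcx : qq p y * x = x * qq p y := RZ_le_centralizer h (qq_mem hsp h hK hy.1)
      have h5 : x * qq p y * (x * qq p y') = qq p y * qq p y' := by
        calc x * qq p y * (x * qq p y') = x * (qq p y * x) * qq p y' := by group
          _ = x * (x * qq p y) * qq p y' := by rw [hcx]
          _ = (x * x) * (qq p y * qq p y') := by group
          _ = _ := by rw [hxx, one_mul]
      rw [h5] at h4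
      have := mul_mem q3 (inv_mem h4)
      rwa [mul_inv_cancel_right] at this
    · right
      have huniq : ∀ s ∈ TT Om (S : Subgroup G), ∀ t ∈ TT Om (S : Subgroup G), s ≠ 1 → t ≠ 1 → cj s K = K →
          cj t K = K → s = t := by
        intro s hs t ht hs1 ht1 hsK htK
        by_contra hcon
        exact h2 ⟨s, hs, t, ht, hs1, ht1, hcon, hsK, htK⟩
      -- an element fixing `K`
      have hex : ∃ s ∈ TT Om (S : Subgroup G), s ≠ 1 ∧ cj s K = K := by
        have hzT := CS.mem_TT hz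
        have huT := CS.mem_TT hu
        rcases cj_cases h hK hL hne (hxT z hzT) with h3 | h3
        · exact ⟨z, hzT, (CS.inZ hz).z1 h, h3.1⟩
        rcases cj_cases h hK hL hne (hxT u huT) with h4 | h4
        · exact ⟨u, huT, (CS.inZ hu).z1 h, h4.1⟩
        refine ⟨z * u, mul_mem hzT huT, fun h5 => hzu ?_, ?_⟩
        · rw [eq_inv_of_mul_eq_one_left h5, (CS.inZ hu).inv h]
        · rw [cj_mul, h4.1, h3.2]
      obtain ⟨s, hs, hs1, hsK⟩ := hex
      refine ⟨p, s, hp, hs, hsp, hs1, fun t ht => ?_, fun M hM => ?_⟩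
      · by_cases h1 : cj t K = K
        · by_cases h3 : t = 1
          · exact Or.inl h3
          · exact Or.inr (Or.inl (huniq t ht s hs h3 hs1 h1 hsK))
        · right; right
          have h3 : cj (p * t) K = K := by
            rcases cj_cases h hK hL hne (hxT t ht) with h6 | h6
            · exact absurd h6.1 h1
            rw [cj_mul, h6.1, ← cj_mul, hpp, cj_one]
          have h4 : ∀ g : G, p * (p * g) = g := fun g => by rw [← mul_assoc, hpp, one_mul]
          by_cases h5 : p * t = 1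
          · left
            rw [← h4 t, h5, mul_one]
          · right
            rw [← huniq _ (mul_mem hp ht) s hs h5 hs1 h3 hsK, h4]
      · obtain ⟨y, hy⟩ := has s hs hsK
        have hyy := sq_of_as_T h hS hK hT hp hsp hs hs1 hy
        have hps := TT_comm h hS hp hs
        have hy' : As (cj p K) s (p * y * p⁻¹) := hy.conj_comm hps
        rcases hK.cases hL h hne hM with rfl | rfl
        · exact ⟨y, hy.1, hyy, hy, hy'⟩
        · refine ⟨p * y * p⁻¹, hy'.1, ?_, hy', ?_⟩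
          · calc p * y * p⁻¹ * (p * y * p⁻¹) = p * (y * y) * p⁻¹ := by group
              _ = x := by rw [hyy, hsp.1, mul_inv_cancel_right]
          · exact hy'.conj_comm hps
  · -- no swap
    left
    push Not at hsw
    have hzT := CS.mem_TT hz
    have huT := CS.mem_TT hu
    have typ : ∀ {v : G}, v ∈ CS Om (S : Subgroup G) → TI Om x v ∨ Ff Om x v := by
      intro v hv
      have hvT := CS.mem_TT hv
      have hv1 := (CS.inZ hv).z1 h
      have hxv : x ≠ v := by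
        rintro rfl
        exact hv1 (hT _ hvT (z_mem_CX h))
      rcases tri h hK.inZ (CS.inZ hv) hxv (hxT v hvT).symm with h1 | h1 | h1
      · exact (hv1 (hT v hvT (cp_cx h (CS.inZ hv) h1))).elim
      · exact Or.inl h1
      · rcases h1.1.cases with h2 | h2
        · exact (hsw v hvT h2).elim
        · exact Or.inr h2
    have hc := CS.cp hz h hS hu hzu
    have hzu1 : z * u ≠ 1 := fun h5 => hzu (by rw [eq_inv_of_mul_eq_one_left h5, (CS.inZ hu).inv h])
    rcases typ hz with iz | fz <;> rcases typ hu with iu | fu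
    · exact (hzu1 (hT _ (mul_mem hzT huT) (tt_II_cx h hc iz iu))).elim
    · exact (tt_If h hc iz (CS.inZ hu) fu).elim
    · exact (tt_If h hc.symm iu (CS.inZ hz) fz).elim
    · obtain ⟨a, ha⟩ := fz.exists_tr h (sq hzT) hK
      have haa := Tr.sq' ha hK
      obtain ⟨-, h2⟩ := tt_ff h l0 hc (an S _ (mul_mem hzT huT) hzu1) (CS.inZ hz) (CS.inZ hu) fz fu hK ha
      have h3 := LJ_T h hS hxT hzT (mul_mem hzT huT) hzu1 (hK.le_RZ ha.mem) h2.comm.symm
      rwa [Tr.inv' ha hK h, mul_inv_cancel_right] at h3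

end Fin

end Cfsg.Agent.Cit.Nil.RTwoM
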