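import Cfsg.Agent.Cit.Nil.RTwoM.UEnd
import Cfsg.Agent.Cit.Nil.RTwoM.TFour
import Cfsg.Agent.Cit.Nil.RTwoM.ROneA
import Cfsg.Agent.Cit.Nil.RTwoM.U.RZero

/-!
# S1309, (6b), (C3), `r = 2`, any `m`, `LAMBDA0 ⟹ StarC` (helper762's uniform proof): (R0), (R1a) in the form of section 6

* `exists_sylow_of_three` : a 3-clique of C-pairs lies in some `C_S`;
* `four_le_card_TT`, `card_TT_le` : `4 ≤ |T_S|` for two elements of `C_S`, `|T_S| ≤ 2 ^ |C_S|`;
* **`RZero.of`** : (R0);
* **`ROneA.of`** : (R1a).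
-/

set_option autoImplicit false
set_option linter.style.haveILetI false
set_option linter.unusedSectionVars false

namespace Cfsg.Agent.Cit.Nil.RTwoM

open Subgroup Cfsg Cfsg.Agent.Cit
open RG (WR CP Ov InO)
open RI (CS)

variable {G : Type*} [Group G] {Om : Set (Subgroup G)} {K L M X A : Subgroup G} {a c d e s t u v w x y z g k n : G}

section Fin

variable [Finite G]

/-- a 3-clique lies in some `C_S` -/
theorem exists_sylow_of_three (h : WM Om) (hz : InZ Om z) (hu : InZ Om u) (he : InZ Om e) (hzu : CP Om z u)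
    (hze : CP Om z e) (hue : CP Om u e) :
    ∃ S : Sylow 2 G, z ∈ CS Om (S : Subgroup G) ∧ u ∈ CS Om (S : Subgroup G) ∧ e ∈ CS Om (S : Subgroup G) := by
  classical
  obtain ⟨K, hK⟩ := hz
  obtain ⟨L, hL⟩ := hu
  obtain ⟨M, hM⟩ := he
  obtain ⟨S, hS⟩ := (isPGroup_clique h {K, L, M} (by
    intro x hx
    rw [Finset.mem_insert, Finset.mem_insert, Finset.mem_singleton] at hx
    rcases hx with rfl | rfl | rfl
    · exact hK.1
    · exact hL.1
    · exact hM.1) (by
    intro x hx y hy hne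
    rw [Finset.mem_insert, Finset.mem_insert, Finset.mem_singleton] at hx hy
    rcases hx with rfl | rfl | rfl <;> rcases hy with rfl | rfl | rfl
    · exact absurd rfl hne
    · exact hzu.2 _ hK _ hL
    · exact hze.2 _ hK _ hM
    · exact fun a ha b hb => (hzu.2 _ hK _ hL b hb a ha).symm
    · exact absurd rfl hne
    · exact hue.2 _ hL _ hM
    · exact fun a ha b hb => (hze.2 _ hK _ hM b hb a ha).symm
    · exact fun a ha b hb => (hue.2 _ hL _ hM b hb a ha).symm
    · exact absurd rfl hne)).exists_le_sylow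
  have h1 : ∀ N ∈ ({K, L, M} : Finset (Subgroup G)), N ≤ (S : Subgroup G) := fun N hN =>
    (le_iSup₂ (f := fun x (_ : x ∈ ({K, L, M} : Finset (Subgroup G))) => x) N hN).trans hS
  exact ⟨S, ⟨K, hK, h1 K (by simp)⟩, ⟨L, hL, h1 L (by simp)⟩, ⟨M, hM, h1 M (by simp)⟩⟩

/-- two elements of `C_S` : `4 ≤ |T_S|` -/
theorem four_le_card_TT (h : WM Om) {S : Subgroup G} (hz : z ∈ CS Om S) (hu : u ∈ CS Om S)
    (hne : z ≠ u) : 4 ≤ Nat.card (TT Om S) := by
  classical
  have hzi := CS.inZ hz
  have hui := CS.inZ hu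
  have h1 : ({1, z, u, z * u} : Finset G).card = 4 := by
    rw [Finset.card_insert_of_notMem, Finset.card_insert_of_notMem, Finset.card_insert_of_notMem,
      Finset.card_singleton]
    · rw [Finset.mem_singleton]
      intro h2
      exact hzi.z1 h (mul_eq_right.1 h2.symm)
    · rw [Finset.mem_insert, Finset.mem_singleton]
      rintro (h2 | h2)
      · exact hne h2
      · exact hui.z1 h (mul_eq_left.1 h2.symm)
    · rw [Finset.mem_insert, Finset.mem_insert, Finset.mem_singleton]
      rintro (h2 | h2 | h2)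
      · exact hzi.z1 h h2.symm
      · exact hui.z1 h h2.symm
      · apply hne
        have h3 : z = u⁻¹ := eq_inv_of_mul_eq_one_left h2.symm
        rw [h3, hui.inv h]
  have h2 : ((({1, z, u, z * u} : Finset G) : Set G)) ⊆ (TT Om S : Set G) := by
    intro k hk
    rw [Finset.mem_coe, Finset.mem_insert, Finset.mem_insert, Finset.mem_insert, Finset.mem_singleton] at hk
    rcases hk with rfl | rfl | rfl | rfl
    · exact one_mem _
    · exact CS.mem_TT hz
    · exact CS.mem_TT hu
    · exact mul_mem (CS.mem_TT hz) (CS.mem_TT hu)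
  have h3 := Set.ncard_le_ncard h2 (Set.toFinite _)
  rw [Set.ncard_coe_finset, h1] at h3
  exact h3.trans (le_of_eq (Nat.card_coe_set_eq _).symm)

/-- `|T_S| = 4` if `T_S = {1, s, p, p s}` -/
theorem card_TT_le_four {S : Subgroup G} (ha : ∀ t ∈ TT Om S, t = 1 ∨ t = a ∨ t = c ∨ t = d) :
    Nat.card (TT Om S) ≤ 4 := by
  classical
  have h2 : (TT Om S : Set G) ⊆ ((({1, a, c, d} : Finset G) : Set G)) := by
    intro t ht
    rw [Finset.mem_coe, Finset.mem_insert, Finset.mem_insert, Finset.mem_insert, Finset.mem_singleton]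
    exact ha t ht
  have h3 := Set.ncard_le_ncard h2 (Finset.finite_toSet _)
  rw [Set.ncard_coe_finset] at h3
  have h4 : Nat.card (TT Om S) = (TT Om S : Set G).ncard := Nat.card_coe_set_eq _
  rw [h4]
  exact h3.trans Finset.card_le_four

/-- **(R0)**, the form of section 6 -/
theorem RZero.of (h : WM Om) (l0 : L0 Om) (an : ANT Om)
    (two : ∀ S : Sylow 2 G, ∃ z u, z ∈ CS Om (S : Subgroup G) ∧ u ∈ CS Om (S : Subgroup G) ∧ z ≠ u) : RZero Om := by
  intro S x hx hfr
  obtain ⟨z, u, hz, hu, hne⟩ := two S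
  have hS := S.isPGroup'
  rcases rzero h l0 an S hx.1 (fun t ht => (hx.comm_TT h l0 hS ht).symm) hfr hz hu hne with h1 | ⟨p, s, e⟩
  · exact Or.inl h1
  right
  have hcs : ∀ v ∈ CS Om (S : Subgroup G), v = s ∨ v = p ∨ v = p * s := by
    intro v hv
    rcases e.all v (CS.mem_TT hv) with h1 | h1
    · exact absurd h1 ((CS.inZ hv).z1 h)
    · exact h1
  refine ⟨le_antisymm (card_TT_le_four e.all) (four_le_card_TT h hz hu hne), ?_⟩
  obtain ⟨K, hK⟩ := hx.1
  obtain ⟨a, haK, haa, has, has'⟩ := e.as K hK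
  have hsK : cj s K = K := by
    have h1 : ∀ y ∈ K, s * y * s⁻¹ ∈ K := fun y hy => by
      rw [has.2 y hy]
      exact mul_mem (mul_mem haK hy) (inv_mem haK)
    apply le_antisymm
    · rintro y hy
      rw [mem_cj] at hy
      have h2 := h1 _ hy
      rwa [show s * (s⁻¹ * y * s) * s⁻¹ = y by group] at h2
    · intro y hy
      have hss : s⁻¹ = s := inv_eq_of_mul_eq_one_right (TT_sq h hS e.sT)
      rw [mem_cj]
      have h2 := h1 y hy
      rw [hss] at h2 ⊢
      exact h2
  have hsx : s * x = x * s := (hx.comm_TT h l0 hS e.sT).symm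
  have hps : Swp Om x (p * s) := swp_mul_fix h hK e.swp hsx hsK
  -- `s ∈ C_S` : type (1a)
  have hA : ∀ v, v ∈ CS Om (S : Subgroup G) → v ≠ s → s ∈ CS Om (S : Subgroup G) →
      ∃ z u, OneA Om (S : Subgroup G) x z u := by
    intro v hv hvs hs
    refine ⟨s, v, hs, hv, ?_, ?_⟩
    · rcases inn_cases h hK (CS.inZ hs) (fun k hk => by
        rw [has.2 k hk]
        exact hK.comm_or h hk haK) with h1 | h1 | h1
      · exact absurd (hfr s e.sT (by rw [← h1]; exact z_mem_CX h)) e.s1
      · exact absurd (hfr s e.sT (cp_cx h (CS.inZ hs) h1)) e.s1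
      · exact h1
    · rcases hcs v hv with h1 | h1 | h1
      · exact absurd h1 hvs
      · rw [h1]; exact e.swp
      · rw [h1]; exact hps
  by_cases hs : s ∈ CS Om (S : Subgroup G)
  · left
    by_cases hzs : z = s
    · exact hA u hu (fun h1 => hne (hzs.trans h1.symm)) hs
    · exact hA z hz hzs hs
  · right
    have hpp : p * p = 1 := TT_sq h hS e.pT
    have hcs' : ∀ v ∈ CS Om (S : Subgroup G), v = p ∨ v = p * s := by
      intro v hv
      rcases hcs v hv with h1 | h1
      · rw [h1] at hv; exact absurd hv hs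
      · exact h1
    have hp : p ∈ CS Om (S : Subgroup G) ∧ p * s ∈ CS Om (S : Subgroup G) := by
      rcases hcs' z hz with h1 | h1 <;> rcases hcs' u hu with h2 | h2
      · exact absurd (h1.trans h2.symm) hne
      · exact ⟨by rw [← h1]; exact hz, by rw [← h2]; exact hu⟩
      · exact ⟨by rw [← h2]; exact hu, by rw [← h1]; exact hz⟩
      · exact absurd (h1.trans h2.symm) hne
    refine ⟨p, p * s, hp.1, hp.2, fun h1 => e.s1 (mul_eq_left.1 h1.symm), hcs', e.swp, hps, K, a, hK, haK, haa, ?_⟩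
    rw [← mul_assoc, hpp, one_mul]
    exact has

/-- **(R1a)**, the form of section 6 -/
theorem ROneA.of (h : WM Om) (l0 : L0 Om) (an : ANT Om) : ROneA Om := by
  intro S x z u hx h4 o
  have hS := S.isPGroup'
  have hzZ := CS.inZ o.hz
  have huZ := CS.inZ o.hu
  have hzu : z ≠ u := by
    rintro rfl
    exact o.sw.not_cases h hx.1 hzZ (Or.inr (Or.inr (o.ti.symm h)))
  have hcp : CP Om z u := CS.cp o.hz h hS o.hu hzu
  have hz1 : z ≠ 1 := hzZ.z1 h
  have hzT := CS.mem_TT o.hz
  have hfo : ∀ e, InZ Om e → CP Om z e → CP Om u e → e = z * u := by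
    intro e he hze hue
    obtain ⟨P, hzP, huP, heP⟩ := exists_sylow_of_three h hzZ huZ he hcp hze hue
    have h4' : Nat.card (TT Om (P : Subgroup G)) = 4 := by rw [card_TT_eq h S P, h4]
    rcases TT_eq_of_four h P h4' hzP huP hzu (CS.mem_TT heP) with h2 | h2 | h2 | h2
    · exact absurd h2 (he.z1 h)
    · exact absurd h2.symm hze.1
    · exact absurd h2.symm hue.1
    · exact h2
  rcases r_one_a h l0 (an S z hzT hz1) huZ hcp o.ti o.sw hfo with h1 | ⟨y, hy, a, k, -, -, -, -, -, h1, -⟩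
  · left
    exact NZ_le_AAS hzT hz1 h1
  · exact Or.inr ⟨y, hy.1, hy.2, h1.2⟩

end Fin

end Cfsg.Agent.Cit.Nil.RTwoM
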