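import Cfsg.Agent.Cit.Nil.RTwoM.FBndM
import Cfsg.Agent.Cit.Nil.RTwoM.ANStar

/-!
# S1309, (6b), (C3), `r = 2`, any `m`, `LAMBDA0`: LEMMA KX and FB4 (helper762, bb #20795)

* `KX.conj_comm` : `e` an involution, `(z, u)` a C-pair in `Z(e)`, `k ∈ C(e)`: `u` and `k u k⁻¹` commute;
* **`KX.comm`** : `(z, u)` a C-pair, `K` a member over `x`, every `k ∈ K` centralised by an involution of `C(R_z) ⊓ C(R_u)`:
  `x u = u x`;
* **`KX.card_le_four`** (FB4) : `F` elementary abelian, `F ≤ C(R_z) ⊓ C(R_u) ⊓ C(x)`, every element of `F` is a swap or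
  inner at `x`, `x u ≠ u x`: `|F| ≤ 4`.
-/

set_option autoImplicit false
set_option linter.style.haveILetI false
set_option linter.unusedSectionVars false

namespace Cfsg.Agent.Cit.Nil.RTwoM

open Subgroup Cfsg Cfsg.Agent.Cit

open RTwo (Q3)
open RG (WR CP Ov InO Tr)
open RI (CS)
open ROne (NC self_mem_NC conj_mem_NC cj_NC mem_NC_conj NC_le)

variable {G : Type*} [Group G] {Om : Set (Subgroup G)} {K L M : Subgroup G}
  {a b c d e f r s t u v x y z z' g k n : G}

namespace KX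

section

variable [Finite G]

/-- `k ∈ C(e)`: `u` and `k u k⁻¹` commute -/
theorem conj_comm (h : WM Om) (l0 : L0 Om) (an : ANS Om) (he : e * e = 1) (he1 : e ≠ 1) (hz : z ∈ ZS Om e)
    (hu : u ∈ ZS Om e) (hc : CP Om z u) (hk : k * e = e * k) : u * (k * u * k⁻¹) = k * u * k⁻¹ * u :=
  ino_comm (an e u z he he1 hu hz hc.symm) h l0 hu u self_mem_NC _ (conj_mem_NC hk)

/-- **KX** -/
theorem comm (h : WM Om) (l0 : L0 Om) (an : ANS Om) (hz : InZ Om z) (hu : InZ Om u) (hc : CP Om z u)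
    (hK : Mem Om x K) (hk : ∀ k ∈ K, ∃ e, e * e = 1 ∧ e ≠ 1 ∧ e ∈ CX Om z ∧ e ∈ CX Om u ∧ k * e = e * k) :
    x * u = u * x := by
  set X : Subgroup G := closure {t | ∃ k ∈ K, t = k * u * k⁻¹} with hX
  have huX : u ∈ X := subset_closure ⟨1, one_mem _, by rw [one_mul, inv_one, mul_one]⟩
  have hpair : ∀ k ∈ K, u * (k * u * k⁻¹) = k * u * k⁻¹ * u := by
    intro k hkK
    obtain ⟨e, he, he1, h1, h2, h3⟩ := hk k hkK
    exact conj_comm h l0 an he he1 ⟨hz, h1⟩ ⟨hu, h2⟩ hc h3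
  have hgen : ∀ a ∈ {t | ∃ k ∈ K, t = k * u * k⁻¹}, ∀ b ∈ {t | ∃ k ∈ K, t = k * u * k⁻¹}, a * b = b * a := by
    rintro _ ⟨k, hk1, rfl⟩ _ ⟨l, hl1, rfl⟩
    have h1 := hpair (k⁻¹ * l) (mul_mem (inv_mem hk1) hl1)
    have h2 := congrArg (fun t => k * t * k⁻¹) h1
    calc k * u * k⁻¹ * (l * u * l⁻¹) = k * (u * (k⁻¹ * l * u * (k⁻¹ * l)⁻¹)) * k⁻¹ := by group
      _ = k * (k⁻¹ * l * u * (k⁻¹ * l)⁻¹ * u) * k⁻¹ := h2
      _ = l * u * l⁻¹ * (k * u * k⁻¹) := by group
  have hcomm : ∀ a ∈ X, ∀ b ∈ X, a * b = b * a := by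
    intro a ha b hb
    have h1 : X ≤ centralizer {t | ∃ k ∈ K, t = k * u * k⁻¹} := by
      refine (closure_le _).2 fun b hb => ?_
      rw [SetLike.mem_coe, mem_centralizer_iff]
      exact fun a ha => hgen a ha b hb
    have h2 : X ≤ centralizer (X : Set G) := by
      refine (closure_le _).2 fun b hb => ?_
      rw [SetLike.mem_coe, mem_centralizer_iff]
      exact fun a ha => ((mem_centralizer_iff.1 (h1 ha)) b hb).symm
    exact (mem_centralizer_iff.1 (h2 hb)) a ha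
  have hsq : ∀ a ∈ X, a * a = 1 := by
    intro a ha
    refine closure_induction (p := fun a _ => a * a = 1) ?_ (by rw [mul_one]) ?_ ?_ ha
    · rintro _ ⟨k, -, rfl⟩
      calc k * u * k⁻¹ * (k * u * k⁻¹) = k * (u * u) * k⁻¹ := by group
        _ = 1 := by rw [hu.z2 h, mul_one, mul_inv_cancel]
    · intro a b ha hb h1 h2
      calc a * b * (a * b) = a * (b * a) * b := by group
        _ = a * (a * b) * b := by rw [hcomm b hb a ha]
        _ = (a * a) * (b * b) := by group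
        _ = 1 := by rw [h1, h2, one_mul]
    · intro a _ h1
      rw [← mul_inv_rev, h1, inv_one]
  have h2X : IsPGroup 2 X := by
    intro a
    refine ⟨1, ?_⟩
    rw [pow_one, pow_two]
    exact Subtype.ext (hsq a a.2)
  have hnorm : K ≤ normalizer (X : Set G) := by
    intro k hkK
    have key : ∀ k ∈ K, cj k X ≤ X := by
      intro k hkK
      rw [cj, map_le_iff_le_comap]
      refine (closure_le _).2 ?_
      rintro _ ⟨l, hl, rfl⟩
      change k * (l * u * l⁻¹) * k⁻¹ ∈ X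
      exact subset_closure ⟨k * l, mul_mem hkK hl, by group⟩
    rw [mem_normalizer_iff_cj]
    refine le_antisymm (key k hkK) ?_
    have h1 := cj_mono k (key k⁻¹ (inv_mem hkK))
    rwa [← cj_mul, mul_inv_cancel, cj_one] at h1
  by_cases hxX : x ∈ X
  · exact hcomm x hxX u huX
  · exact h.hyp.lemma_one hK.1 (h.isPGroup hK.1) h2X hnorm (by rw [hK.2]; exact hxX) x (hK.zmem h) u huX

/-- **FB4** -/
theorem card_le_four (h : WM Om) (l0 : L0 Om) (an : ANS Om) (hz : InZ Om z) (hu : InZ Om u) (hx : InZ Om x)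
    (hcp : CP Om z u) (hxu : x * u ≠ u * x) (F : Subgroup G)
    (hs : ∀ a ∈ F, a * a = 1) (hFz : F ≤ CX Om z) (hFu : F ≤ CX Om u)
    (hin : ∀ f ∈ F, Swp Om x f ∨ Inn Om x f) (hFx : ∀ f ∈ F, f * x = x * f) : Nat.card F ≤ 4 := by
  obtain ⟨K, hK⟩ := hx
  obtain ⟨L, hL, hne, -⟩ := hK.other h
  let F0 : Subgroup G := F ⊓ normalizer (K : Set G)
  have hinn : ∀ f ∈ F0, ∀ k ∈ K, f * k * f⁻¹ = k ∨ f * k * f⁻¹ = x * k := by
    intro f hf
    rcases hin f hf.1 with h1 | h1
    · exact absurd (mem_normalizer_iff_cj.1 hf.2) (h1.2 K hK)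
    · exact h1 K hK
  have hfaith : ∀ f ∈ F, (∀ k ∈ K, f * k = k * f) → f = 1 := fun f hf h1 =>
    an.no_mem h l0 hz hu hcp hxu (hs f hf) (hFz hf) (hFu hf) hK h1
  have htwo : ∀ e ∈ F0, ∀ e' ∈ F0, e ≠ 1 → e' ≠ 1 → e = e' := by
    intro e he e' he' he1 he1'
    by_contra hee
    refine hxu (comm h l0 an hz hu hcp hK fun k hk => ?_)
    by_cases h1 : k * e = e * k
    · exact ⟨e, hs e he.1, he1, hFz he.1, hFu he.1, h1⟩
    by_cases h2 : k * e' = e' * k
    · exact ⟨e', hs e' he'.1, he1', hFz he'.1, hFu he'.1, h2⟩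
    refine ⟨e * e', hs _ (mul_mem he.1 he'.1), ?_, hFz (mul_mem he.1 he'.1), hFu (mul_mem he.1 he'.1), ?_⟩
    · intro h3
      have h4 : e' = e := by
        have h5 := eq_inv_of_mul_eq_one_right h3
        rwa [inv_eq_of_mul_eq_one_right (hs e he.1)] at h5
      exact hee h4.symm
    · have h3 : e * k * e⁻¹ = x * k := by
        rcases hinn e he k hk with h3 | h3
        · exact absurd (by rw [mul_inv_eq_iff_eq_mul] at h3; exact h3.symm) h1
        · exact h3
      have h4 : e' * k * e'⁻¹ = x * k := by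
        rcases hinn e' he' k hk with h4 | h4
        · exact absurd (by rw [mul_inv_eq_iff_eq_mul] at h4; exact h4.symm) h2
        · exact h4
      have h5 : e * x = x * e := hFx e he.1
      have h6 : e * e' * k * (e * e')⁻¹ = k := by
        calc e * e' * k * (e * e')⁻¹ = e * (e' * k * e'⁻¹) * e⁻¹ := by group
          _ = e * x * k * e⁻¹ := by rw [h4]; group
          _ = x * (e * k * e⁻¹) := by rw [h5]; group
          _ = (x * x) * k := by rw [h3]; group
          _ = k := by rw [hK.inZ.z2 h, one_mul]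
      rw [mul_inv_eq_iff_eq_mul] at h6
      exact h6.symm
  have hF0 : Nat.card F0 ≤ 2 := by
    classical
    let ψ : F0 → Prop := fun f => (f : G) = 1
    have hinj : Function.Injective ψ := by
      intro f f' hff
      have h1 : (f : G) = 1 ↔ (f' : G) = 1 := hff.to_iff
      apply Subtype.ext
      by_cases h2 : (f : G) = 1
      · rw [h2, h1.1 h2]
      · exact htwo f f.2 f' f'.2 h2 fun h3 => h2 (h1.2 h3)
    calc Nat.card F0 ≤ Nat.card Prop := Nat.card_le_card_of_injective ψ hinj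
      _ = 2 := by simp
  by_cases hall : ∀ f ∈ F, cj f K = K
  · have : F ≤ F0 := fun f hf' => ⟨hf', mem_normalizer_iff_cj.2 (hall f hf')⟩
    have := Subgroup.card_le_of_le this
    omega
  push Not at hall
  obtain ⟨p, hp, hpK⟩ := hall
  have hp' : cj p K = L ∧ cj p L = K := by
    rcases cj_cases h hK hL hne (hFx p hp) with h1 | h1
    · exact absurd h1.1 hpK
    · exact h1
  classical
  have hmem : ∀ f : F, ¬ (f : G) ∈ F0 → (f : G) * p ∈ F0 := by
    intro f hf'
    refine ⟨mul_mem f.2 hp, mem_normalizer_iff_cj.2 ?_⟩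
    rcases cj_cases h hK hL hne (hFx f f.2) with h1 | h1
    · exact absurd ⟨f.2, mem_normalizer_iff_cj.2 h1.1⟩ hf'
    · rw [cj_mul, hp'.1, h1.2]
  let φ : F → F0 × Prop := fun f =>
    (if hf' : (f : G) ∈ F0 then ⟨f, hf'⟩ else ⟨f * p, hmem f hf'⟩, (f : G) ∈ F0)
  have hinj : Function.Injective φ := by
    intro f f' hff
    have h1 := (Prod.ext_iff.1 hff).1
    have h2 : (f : G) ∈ F0 ↔ (f' : G) ∈ F0 := (Prod.ext_iff.1 hff).2.to_iff
    apply Subtype.ext
    by_cases h3 : (f : G) ∈ F0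
    · have h4 := h2.1 h3
      simp only [φ, dif_pos h3, dif_pos h4] at h1
      exact congrArg (fun q : F0 => (q : G)) h1
    · have h4 : ¬ (f' : G) ∈ F0 := fun h5 => h3 (h2.2 h5)
      simp only [φ, dif_neg h3, dif_neg h4] at h1
      exact mul_right_cancel (congrArg (fun q : F0 => (q : G)) h1)
  calc Nat.card F ≤ Nat.card (F0 × Prop) := Nat.card_le_card_of_injective φ hinj
    _ = Nat.card F0 * 2 := by
      rw [Nat.card_prod]
      simp
    _ ≤ 4 := by omega

end

end KX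

end Cfsg.Agent.Cit.Nil.RTwoM
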