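import Cfsg.Agent.Cit.Nil.RTwoM.UPsi
import Cfsg.Agent.Cit.Nil.RTwoM.ROneA
import Cfsg.Agent.Cit.Nil.RTwoM.U.RZero

/-!
# S1309, (6b), (C3), `r = 2`, any `m`, `LAMBDA0 ⟹ StarC` (helper762's uniform proof), section 4.2: world NS

* `NSW Om` : no `Z(s)`, `s ∈ T_S#`, contains a swap pair;
* `NSW.inn` : `n ∈ N_s` is inner at `y ∈ Z(s)`;
* **`NSW.exists_t`** : every `x ∈ Ψ_S` centralises some `t ∈ T_S#` together with `R_x`;
* `NSW.inn_psi` : `x ∈ Ψ_S` is inner at `w ∈ C_S`; `NSW.index_two` : `|T : T_x| ≤ 2`;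
* **`NSW.starC`** : `|T| > 4`: `StarC`.
-/

set_option autoImplicit false
set_option linter.style.haveILetI false
set_option linter.unusedSectionVars false

namespace Cfsg.Agent.Cit.Nil.RTwoM

open Subgroup Cfsg Cfsg.Agent.Cit
open RG (WR CP Ov InO)
open RI (CS)

variable {G : Type*} [Group G] {Om : Set (Subgroup G)} {K L M X A : Subgroup G} {a b c d e g k l m n s t u v w x y z : G}

/-- world NS : no `Z(s)` contains a swap pair -/
def NSW (Om : Set (Subgroup G)) : Prop := ∀ (S : Sylow 2 G), ∀ s ∈ TT Om (S : Subgroup G), s ≠ 1 →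
  ∀ y ∈ ZS Om s, ∀ y' ∈ ZS Om s, ¬ Swp Om y y'

section Fin

variable [Finite G]

theorem CS.ne1 {S : Subgroup G} (h : WM Om) (hz : z ∈ CS Om S) : z ≠ 1 := (CS.inZ hz).z1 h

theorem not_self_of_free {S : Subgroup G} (h : WM Om) (hf : Free Om S x) (hw : w ∈ CS Om S) : w ∉ CX Om x := fun h1 =>
  CS.ne1 h hw (hf w (CS.mem_TT hw) h1)

/-- an element of `Ψ_S` which is inner at two elements of `C_S` is not free -/
theorem not_free_of_inn (h : WM Om) {S : Subgroup G} (hS : IsPGroup 2 S) (hx : InZ Om x) (hz : z ∈ CS Om S)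
    (hu : u ∈ CS Om S) (hzu : z ≠ u) (h1 : Inn Om z x) (h2 : Inn Om u x) : ¬ Free Om S x := by
  intro hf
  have key : ∀ w ∈ CS Om S, Inn Om w x → TI Om x w := by
    intro w hw hi
    rcases hi.cases h (CS.inZ hw) hx with h3 | h3 | h3
    · exfalso
      subst h3
      exact not_self_of_free h hf hw (z_mem_CX h)
    · exact (not_self_of_free h hf hw ((cen_iff h hx (CS.inZ hw)).2 (Or.inr h3.symm))).elim
    · exact h3.symm h
  have h3 := tt_II_cx h (CS.cp hz h hS hu hzu) (key z hz h1) (key u hu h2)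
  have h4 := hf _ (mul_mem (CS.mem_TT hz) (CS.mem_TT hu)) h3
  apply hzu
  have h5 : z = u⁻¹ := eq_inv_of_mul_eq_one_left h4
  rw [h5, (CS.inZ hu).inv h]

/-- `u ∈ C_S` swapping the members over `x`: `x` is not inner at `u` -/
theorem Swp.not_inn_symm (hs : Swp Om x u) (h : WM Om) (hx : InZ Om x) (hu : InZ Om u) :
    ¬ Inn Om u x := by
  intro hi
  obtain ⟨K, hK⟩ := hx
  exact hs.2 K hK ((hi.symm hu hK.inZ h).cj_eq hK h)

namespace NSW

variable (ns : NSW Om)
include ns

/-- the elements of `N_s` are inner at the elements of `Z(s)` -/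
theorem inn (h : WM Om) (l0 : L0 Om) (an : ANT Om) (S : Sylow 2 G) (hs : s ∈ TT Om (S : Subgroup G)) (hs1 : s ≠ 1)
    (hy : y ∈ ZS Om s) (hn : n ∈ NZ Om s) : Inn Om y n := by
  have nil := nilS_ZS' h l0 (an S s hs hs1)
  have hyZ := hy.1
  induction hn using closure_induction with
  | mem w hw =>
    by_cases hyw : y = w
    · subst hyw; exact Inn.of_CX (z_mem_CX h)
    rcases tri h hyZ hw.1 hyw (nil.comm y hy w hw) with h1 | h1 | ⟨h1, -⟩
    · exact inn_of_cp h hw.1 h1
    · exact h1.inn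
    · exfalso
      rcases h1.cases with h2 | h2
      · exact ns S s hs hs1 y hy w hw h2
      · exact nil.not_ff h hy (mem_NZ hw) h2
  | one => exact Inn.one
  | mul a b _ _ iha ihb => exact iha.mul ihb hyZ h
  | inv a _ iha => exact iha.inv hyZ h

theorem inn_AAS (h : WM Om) (l0 : L0 Om) (an : ANT Om) (S : Sylow 2 G) (hw : w ∈ CS Om (S : Subgroup G))
    (hx : x ∈ AAS Om (S : Subgroup G)) : Inn Om w x := by
  have hwZ := CS.inZ hw
  induction hx using closure_induction with
  | mem y hy =>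
    obtain ⟨t, ht, ht1, hy⟩ := hy
    exact ns.inn h l0 an S ht ht1 (CS_subset_ZS h S.isPGroup' ht hw) (mem_NZ hy)
  | one => exact Inn.one
  | mul a b _ _ iha ihb => exact iha.mul ihb hwZ h
  | inv a _ iha => exact iha.inv hwZ h

/-- (R1a) in NS: no element of `C_S` is of type I at `x` if another one is a swap, `|T_S| ≤ 4` -/
theorem no_a (h : WM Om) (l0 : L0 Om) (an : ANT Om) (S : Sylow 2 G) (hz : z ∈ CS Om (S : Subgroup G))
    (hu : u ∈ CS Om (S : Subgroup G)) (hzu : z ≠ u)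
    (hT : ∀ t ∈ TT Om (S : Subgroup G), t = 1 ∨ t = z ∨ t = u ∨ t = z * u) (hti : TI Om x z) (hs : Swp Om x u) : False := by
  have hzZ := CS.inZ hz
  have huZ := CS.inZ hu
  have hcp := CS.cp hz h S.isPGroup' hu hzu
  have h4 : ∀ e, InZ Om e → CP Om z e → CP Om u e → e = z * u := by
    intro e he h1 h2
    have h3 : TT Om (S : Subgroup G) ≤ CX Om e := by
      intro t ht
      have hze : z ∈ CX Om e := (cen_iff h he hzZ).2 (Or.inr h1.symm)
      have hue : u ∈ CX Om e := (cen_iff h he huZ).2 (Or.inr h2.symm)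
      rcases hT t ht with rfl | rfl | rfl | rfl
      · exact one_mem _
      · exact hze
      · exact hue
      · exact mul_mem hze hue
    have h5 : e ∈ CS Om (S : Subgroup G) := by
      refine mem_CS_of_clique h S he fun w hw => ?_
      rcases (cen_iff h he (CS.inZ hw)).1 (h3 (CS.mem_TT hw)) with h6 | h6
      · exact Or.inl h6.symm
      · exact Or.inr h6.symm
    rcases hT e (CS.mem_TT h5) with h6 | h6 | h6 | h6
    · exact (he.z1 h h6).elim
    · exact (h1.1 h6.symm).elim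
    · exact (h2.1 h6.symm).elim
    · exact h6
  have hzT := CS.mem_TT hz
  rcases r_one_a h l0 (an S z hzT (hzZ.z1 h)) huZ hcp hti hs h4 with h1 | ⟨y, hy, a, k, ha, haz, -, -, -, -, h2, h3⟩
  · exact hti.not_mem_CX h (NZ_le_CX h hzZ h1)
  · exact ns S z hzT (hzZ.z1 h) u (CS_subset_ZS h S.isPGroup' hzT hu) _ h2 h3

/-- the exceptional action of `T_S` on `R_x` does not occur -/
theorem no_ex (h : WM Om) (l0 : L0 Om) (an : ANT Om) (S : Sylow 2 G) (hz : z ∈ CS Om (S : Subgroup G))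
    (hu : u ∈ CS Om (S : Subgroup G)) (hzu : z ≠ u) {p s : G} (hx : InZ Om x)
    (ex : Ex4 Om (S : Subgroup G) x p s) :
    (∀ t ∈ TT Om (S : Subgroup G), t = 1 ∨ t = z ∨ t = u ∨ t = z * u) ∧ z * u = s ∧ Swp Om x z ∧ Swp Om x u := by
  have hS := S.isPGroup'
  have hzZ := CS.inZ hz
  have huZ := CS.inZ hu
  have hzT := CS.mem_TT hz
  have huT := CS.mem_TT hu
  have hz1 := hzZ.z1 h
  have hu1 := huZ.z1 h
  have hzz := hzZ.z2 h
  have huu := huZ.z2 h
  have hpp := TT_sq h hS ex.pT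
  have hss := TT_sq h hS ex.sT
  have hps := TT_comm h hS ex.pT ex.sT
  obtain ⟨K, hK⟩ := hx
  obtain ⟨a, ha, haa, hA, hA'⟩ := ex.as K hK
  have hxZ := hK.inZ
  have hxs : s * x = x * s := hK.of_cj h hA.cj_eq
  have hxp := ex.swp.1
  have hp1 : p ≠ 1 := by
    rintro rfl
    exact ex.swp.2 K hK (cj_one K)
  have hne : s ≠ p := by
    intro h1
    rw [h1] at hA
    exact ex.swp.2 K hK hA.cj_eq
  have hsw' : Swp Om x (p * s) := swp_mul_fix h hK ex.swp hxs hA.cj_eq
  -- `s ∉ C_S`
  have hT' : ∀ z u, z ∈ CS Om (S : Subgroup G) → u ∈ CS Om (S : Subgroup G) → z ≠ u → z = s →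
      (∀ t ∈ TT Om (S : Subgroup G), t = 1 ∨ t = z ∨ t = u ∨ t = z * u) ∧ Swp Om x u := by
    intro z u hz hu hzu hzs
    subst hzs
    rcases ex.all u (CS.mem_TT hu) with h1 | h1 | h1 | h1
    · exact ((CS.inZ hu).z1 h h1).elim
    · exact (hzu h1.symm).elim
    · subst h1
      refine ⟨fun t ht => ?_, ex.swp⟩
      rcases ex.all t ht with h2 | h2 | h2 | h2
      · exact Or.inl h2
      · exact Or.inr (Or.inl h2)
      · exact Or.inr (Or.inr (Or.inl h2))
      · exact Or.inr (Or.inr (Or.inr (h2.trans hps)))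
    · subst h1
      refine ⟨fun t ht => ?_, hsw'⟩
      rcases ex.all t ht with h2 | h2 | h2 | h2
      · exact Or.inl h2
      · exact Or.inr (Or.inl h2)
      · refine Or.inr (Or.inr (Or.inr ?_))
        rw [h2, hps, ← mul_assoc, hss, one_mul]
      · exact Or.inr (Or.inr (Or.inl h2))
  have key : ∀ z u, z ∈ CS Om (S : Subgroup G) → u ∈ CS Om (S : Subgroup G) → z ≠ u → z ≠ s := by
    intro z u hz hu hzu hzs
    obtain ⟨h1, h2⟩ := hT' z u hz hu hzu hzs
    have hti : TI Om x z := by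
      subst hzs
      refine TI.of_one h hK (CS.inZ hz) ?_ ?_ ?_
      · rintro rfl
        exact hK.not_as_one h hA haa (hK.as_z h)
      · intro k hk
        rw [hA.2 k hk]
        exact hK.comm_or h hk ha
      · intro h3
        exact hK.not_as_one h hA haa (As.one_iff.2 h3)
    exact ns.no_a h l0 an S hz hu hzu h1 hti h2
  have hzs := key z u hz hu hzu
  have hus := key u z hu hz (Ne.symm hzu)
  -- `{z, u} = {p, p s}`
  have hzc : z = p ∨ z = p * s := by
    rcases ex.all z hzT with h1 | h1 | h1 | h1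
    · exact (hz1 h1).elim
    · exact (hzs h1).elim
    · exact Or.inl h1
    · exact Or.inr h1
  have huc : u = p ∨ u = p * s := by
    rcases ex.all u huT with h1 | h1 | h1 | h1
    · exact (hu1 h1).elim
    · exact (hus h1).elim
    · exact Or.inl h1
    · exact Or.inr h1
  have e1 : p * (p * s) = s := by rw [← mul_assoc, hpp, one_mul]
  have e2 : (p * s) * p = s := by rw [mul_assoc, ← hps, ← mul_assoc, hpp, one_mul]
  have e3 : p * s * s = p := by rw [mul_assoc, hss, mul_one]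
  rcases hzc with h1 | h1 <;> rcases huc with h2 | h2
  · exact (hzu (h1.trans h2.symm)).elim
  · refine ⟨fun t ht => ?_, by rw [h1, h2, e1], h1 ▸ ex.swp, h2 ▸ hsw'⟩
    rw [h1, h2, e1]
    rcases ex.all t ht with h3 | h3 | h3 | h3
    · exact Or.inl h3
    · exact Or.inr (Or.inr (Or.inr h3))
    · exact Or.inr (Or.inl h3)
    · exact Or.inr (Or.inr (Or.inl h3))
  · refine ⟨fun t ht => ?_, by rw [h1, h2, e2], h1 ▸ hsw', h2 ▸ ex.swp⟩
    rw [h1, h2, e2]
    rcases ex.all t ht with h3 | h3 | h3 | h3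
    · exact Or.inl h3
    · exact Or.inr (Or.inr (Or.inr h3))
    · exact Or.inr (Or.inr (Or.inl h3))
    · exact Or.inr (Or.inl h3)
  · exact (hzu (h1.trans h2.symm)).elim

/-- **4.2(a)** -/
theorem exists_t (h : WM Om) (l0 : L0 Om) (an : ANT Om) (S : Sylow 2 G) (hz : z ∈ CS Om (S : Subgroup G))
    (hu : u ∈ CS Om (S : Subgroup G)) (hzu : z ≠ u) (hx : Psi Om (S : Subgroup G) x) :
    ∃ t ∈ TT Om (S : Subgroup G), t ≠ 1 ∧ t ∈ CX Om x := by
  have hS := S.isPGroup'
  by_contra hcon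
  push Not at hcon
  have key : ∀ x, Psi Om (S : Subgroup G) x → Free Om (S : Subgroup G) x → Swp Om x z ∧ Swp Om x u ∧
      (∀ t ∈ TT Om (S : Subgroup G), t = 1 ∨ t = z ∨ t = u ∨ t = z * u) ∧
      (∀ K, Mem Om x K → ∃ a ∈ K, a * a = x ∧ As K (z * u) a) := by
    intro x hx hf
    rcases rzero h l0 an S hx.1 (fun t ht => (hx.comm_TT h l0 hS ht).symm) hf hz hu hzu with h1 | ⟨p, s, ex⟩
    · exact (not_free_of_inn h hS hx.1 hz hu hzu (ns.inn_AAS h l0 an S hz h1) (ns.inn_AAS h l0 an S hu h1) hf).elim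
    · obtain ⟨h1, h2, h3, h4⟩ := ns.no_ex h l0 an S hz hu hzu hx.1 ex
      refine ⟨h3, h4, h1, fun K hK => ?_⟩
      obtain ⟨a, ha, haa, hA, -⟩ := ex.as K hK
      exact ⟨a, ha, haa, h2 ▸ hA⟩
  have hfx : Free Om (S : Subgroup G) x := fun t ht htx => by
    by_contra ht1
    exact hcon t ht ht1 htx
  obtain ⟨hxz, hxu, hT, hAs⟩ := key x hx hfx
  obtain ⟨K, hK⟩ := hx.1
  obtain ⟨a, ha, haa, hA⟩ := hAs K hK
  have hzZ := CS.inZ hz
  have huZ := CS.inZ hu
  have hcp := CS.cp hz h hS hu hzu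
  have hzT := CS.mem_TT hz
  have huT := CS.mem_TT hu
  obtain ⟨l, hl, hll, hal, hxe, heN, hk⟩ := r_one_c h hzZ huZ hx.1 hcp hxz hK hA haa
  have hzu1 : z * u ≠ 1 := by
    intro h1
    apply hzu
    rw [eq_inv_of_mul_eq_one_left h1, huZ.inv h]
  -- the conjugates `k z k⁻¹` are inner at `z`
  have key2 : ∀ k ∈ K, a * k ≠ k * a → Inn Om z (k * z * k⁻¹) := by
    intro k hk1 hk2
    obtain ⟨h1, h2, h3⟩ := hk k hk1 hk2
    obtain ⟨v, hv⟩ : ∃ v, v = k * z * k⁻¹ := ⟨_, rfl⟩
    rw [← hv] at h1 h2 h3 ⊢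
    have hvZ : InZ Om v := by rw [hv]; exact hzZ.conj h k
    have hTv : ∀ t ∈ TT Om (S : Subgroup G), v * t = t * v := by
      intro t ht
      rcases hT t ht with rfl | rfl | rfl | rfl
      · rw [one_mul, mul_one]
      · exact h1
      · exact h2
      · rw [← mul_assoc, h1, mul_assoc, h2, mul_assoc]
    have hvP : Psi Om (S : Subgroup G) v := Psi.of_comm hvZ fun w hw => hTv w (CS.mem_TT hw)
    by_cases hf : Free Om (S : Subgroup G) v
    · exfalso
      obtain ⟨-, -, -, h4⟩ := key v hvP hf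
      apply h3
      intro M hM k hk
      obtain ⟨b, hb, -, hB⟩ := h4 M hM
      rw [hB.2 k hk]
      exact hM.comm_or h hk hb
    · rw [Free] at hf
      push Not at hf
      obtain ⟨t, ht, htv, ht1⟩ := hf
      exact ns.inn h l0 an S ht ht1 (CS_subset_ZS h hS ht hz) (mem_NZ ⟨hvZ, htv⟩)
  have h1 := key2 l hl hal
  have hal' : a * (a * l) ≠ (a * l) * a := by
    intro h2
    apply hal
    have h3 : a * (a * l) = a * (l * a) := by rw [h2, mul_assoc]
    exact mul_left_cancel h3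
  have h2 := key2 (a * l) (mul_mem ha hl) hal'
  have h3 : Inn Om z (z * a * z⁻¹ * a⁻¹) :=
    ns.inn h l0 an S (mul_mem hzT huT) hzu1 (CS_subset_ZS h hS (mul_mem hzT huT) hz) heN
  have h4 : Inn Om z x := by
    rw [hxe]
    exact (h3.mul h1 hzZ h).mul h2 hzZ h
  exact hxz.not_inn_symm h hx.1 hzZ h4

/-- the elements of `Ψ_S` are inner at the elements of `C_S` -/
theorem inn_psi (h : WM Om) (l0 : L0 Om) (an : ANT Om) (S : Sylow 2 G) (hz : z ∈ CS Om (S : Subgroup G))
    (hu : u ∈ CS Om (S : Subgroup G)) (hzu : z ≠ u) (hx : Psi Om (S : Subgroup G) x)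
    (hw : w ∈ CS Om (S : Subgroup G)) : Inn Om w x := by
  obtain ⟨t, ht, ht1, htx⟩ := ns.exists_t h l0 an S hz hu hzu hx
  exact ns.inn h l0 an S ht ht1 (CS_subset_ZS h S.isPGroup' ht hw) (mem_NZ ⟨hx.1, htx⟩)

/-- **4.2(b)** : `|T : T_x| ≤ 2` -/
theorem index_two (h : WM Om) (l0 : L0 Om) (an : ANT Om) (S : Sylow 2 G) (hz : z ∈ CS Om (S : Subgroup G))
    (hu : u ∈ CS Om (S : Subgroup G)) (hzu : z ≠ u) (hx : Psi Om (S : Subgroup G) x) {s t : G}
    (hs : s ∈ TT Om (S : Subgroup G)) (ht : t ∈ TT Om (S : Subgroup G)) (hsx : s ∉ CX Om x) (htx : t ∉ CX Om x) :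
    s * t ∈ CX Om x := by
  have hS := S.isPGroup'
  obtain ⟨e, he, hex⟩ : ∃ e ∈ CS Om (S : Subgroup G), e ∉ CX Om x := by
    by_contra hcon
    push Not at hcon
    exact hsx ((closure_le (K := CX Om x)).2 hcon hs)
  have heZ := CS.inZ he
  have heT := CS.mem_TT he
  have hee := heZ.z2 h
  have hin : ∀ w ∈ CS Om (S : Subgroup G), w ∉ CX Om x → TI Om x w := by
    intro w hw hwx
    rcases (ns.inn_psi h l0 an S hz hu hzu hx hw).cases h (CS.inZ hw) hx.1 with h1 | h1 | h1
    · exact (hwx (by rw [h1]; exact z_mem_CX h)).elim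
    · exact (hwx ((cen_iff h hx.1 (CS.inZ hw)).2 (Or.inr h1.symm))).elim
    · exact h1.symm h
  have key : ∀ t ∈ TT Om (S : Subgroup G), t ∈ CX Om x ∨ e * t ∈ CX Om x := by
    intro t ht
    induction ht using closure_induction with
    | mem w hw =>
      by_cases hwx : w ∈ CX Om x
      · exact Or.inl hwx
      right
      by_cases hew : e = w
      · rw [← hew, hee]; exact one_mem _
      · exact tt_II_cx h (CS.cp he h hS hw hew) (hin e he hex) (hin w hw hwx)
    | one => exact Or.inl (one_mem _)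
    | mul a b ha hb iha ihb =>
      have hea := TT_comm h hS heT ha
      rcases iha with h1 | h1 <;> rcases ihb with h2 | h2
      · exact Or.inl (mul_mem h1 h2)
      · right
        rw [← mul_assoc, hea, mul_assoc]
        exact mul_mem h1 h2
      · right
        rw [← mul_assoc]
        exact mul_mem h1 h2
      · left
        have h3 : a * b = (e * a) * (e * b) := by
          calc a * b = a * (e * e) * b := by rw [hee, mul_one]
            _ = (a * e) * (e * b) := by group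
            _ = _ := by rw [hea]
        rw [h3]
        exact mul_mem h1 h2
    | inv a ha iha =>
      have haa := TT_sq h hS ha
      rw [inv_eq_of_mul_eq_one_right haa]
      exact iha
  rcases key s hs with h1 | h1
  · exact (hsx h1).elim
  rcases key t ht with h2 | h2
  · exact (htx h2).elim
  have h3 : s * t = (e * s) * (e * t) := by
    calc s * t = s * (e * e) * t := by rw [hee, mul_one]
      _ = (s * e) * (e * t) := by group
      _ = _ := by rw [TT_comm h hS heT hs]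
  rw [h3]
  exact mul_mem h1 h2

/-- **NS, `|T| > 4`: the elements of `Ψ_S` commute** -/
theorem comm_psi (h : WM Om) (l0 : L0 Om) (an : ANT Om) (S : Sylow 2 G) (hz : z ∈ CS Om (S : Subgroup G))
    (hu : u ∈ CS Om (S : Subgroup G)) (hzu : z ≠ u) (hT : 4 < Nat.card (TT Om (S : Subgroup G)))
    (hx : Psi Om (S : Subgroup G) x) (hy : Psi Om (S : Subgroup G) y) : x * y = y * x := by
  classical
  have hS := S.isPGroup'
  -- pigeonhole
  haveI : Fintype (TT Om (S : Subgroup G)) := Fintype.ofFinite _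
  obtain ⟨⟨s, hs⟩, ⟨t, ht⟩, hne, hst⟩ := Fintype.exists_ne_map_eq_of_card_lt
    (fun t : TT Om (S : Subgroup G) => (decide ((t : G) ∈ CX Om x), decide ((t : G) ∈ CX Om y)))
    (by rw [Fintype.card_prod, Fintype.card_bool, ← Nat.card_eq_fintype_card]; omega)
  simp only [Prod.mk.injEq, decide_eq_decide] at hst
  have hst1 : s * t ≠ 1 := by
    intro h1
    apply hne
    have h2 : s = t⁻¹ := eq_inv_of_mul_eq_one_left h1
    have htt := TT_sq h hS ht
    apply Subtype.ext
    change s = t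
    rw [h2, inv_eq_of_mul_eq_one_right htt]
  have key : ∀ x, Psi Om (S : Subgroup G) x → (s ∈ CX Om x ↔ t ∈ CX Om x) → s * t ∈ CX Om x := by
    intro x hx hiff
    by_cases h1 : s ∈ CX Om x
    · exact mul_mem h1 (hiff.1 h1)
    · exact ns.index_two h l0 an S hz hu hzu hx hs ht h1 fun h2 => h1 (hiff.2 h2)
  exact ZS_comm h l0 (an S _ (mul_mem hs ht) hst1) ⟨hx.1, key x hx hst.1⟩ ⟨hy.1, key y hy hst.2⟩

theorem starC (h : WM Om) (l0 : L0 Om) (an : ANT Om) (hT : ∀ S : Sylow 2 G, 4 < Nat.card (TT Om (S : Subgroup G))) :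
    StarC Om := by
  intro S x y hx hy hxS hyS
  obtain ⟨z, hz, u, hu, hzu⟩ : ∃ z ∈ CS Om (S : Subgroup G), ∃ u ∈ CS Om (S : Subgroup G), z ≠ u := by
    by_contra hcon
    push Not at hcon
    have h1 : ∀ t ∈ TT Om (S : Subgroup G), ∀ z ∈ CS Om (S : Subgroup G), t = 1 ∨ t = z := by
      intro t ht z hz
      have hzz := (CS.inZ hz).z2 h
      induction ht using closure_induction with
      | mem w hw => exact Or.inr (hcon w hw z hz)
      | one => exact Or.inl rfl
      | mul a b _ _ iha ihb =>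
        rcases iha with rfl | rfl <;> rcases ihb with rfl | rfl
        · left; rw [one_mul]
        · right; rw [one_mul]
        · right; rw [mul_one]
        · left; exact hzz
      | inv a _ iha =>
        rcases iha with rfl | rfl
        · left; rw [inv_one]
        · right; exact (CS.inZ hz).inv h
    have h2 : ∃ z, (TT Om (S : Subgroup G) : Set G) ⊆ {1, z} := by
      by_cases hne : ∃ z, z ∈ CS Om (S : Subgroup G)
      · obtain ⟨z, hz⟩ := hne
        exact ⟨z, fun t ht => h1 t ht z hz⟩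
      · push Not at hne
        refine ⟨1, fun t ht => ?_⟩
        have h3 : TT Om (S : Subgroup G) ≤ ⊥ := (closure_le _).2 fun w hw => (hne w hw).elim
        exact Or.inl (mem_bot.1 (h3 ht))
    obtain ⟨z, h2⟩ := h2
    have h3 := Set.ncard_le_ncard h2 (Set.toFinite _)
    have h4 := Set.ncard_insert_le (1 : G) {z}
    rw [Set.ncard_singleton] at h4
    have h5 : (TT Om (S : Subgroup G) : Set G).ncard = Nat.card (TT Om (S : Subgroup G)) := (Nat.card_coe_set_eq _).symm
    have h6 := hT S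
    omega
  exact ns.comm_psi h l0 an S hz hu hzu (hT S) ⟨hx, hxS⟩ ⟨hy, hyS⟩

end NSW

end Fin

end Cfsg.Agent.Cit.Nil.RTwoM
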