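import Cfsg.Agent.Cit.Nil.RTwoM.U.NsReg
import Cfsg.Agent.Cit.Nil.RTwoM.Line

/-!
# S1309, (6b), (C3), `r = 2`, `m = 2`, `LAMBDA0 ⟹ CENT` in world NS (helper762's text, 5.2)

* `swp_lemma` (LEMMA SWP) : `(y, c)` type I, `g ∈ R_c` of full support, commuting with the direction of `y` but different from
  it; if `g` normalises a member over `y` then `y ∈ R_c`;
* `NSW.two_false` : 5.2 (II);
* **`NSW.cent`** : `|C_S| = 2`: `CENT`.
-/

set_option autoImplicit false
set_option linter.style.haveILetI false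
set_option linter.unusedSectionVars false

namespace Cfsg.Agent.Cit.Nil.RTwoM

open Subgroup Cfsg Cfsg.Agent.Cit
open RG (WR CP Ov InO)
open RI (CS)

variable {G : Type*} [Group G] {Om : Set (Subgroup G)} {K K' L M X A : Subgroup G}
  {a b c c' d e g k k' l m n q r s t u v w x y z : G}

section Fin

variable [Finite G]

/-- **LEMMA SWP** -/
theorem swp_lemma (h : WM Om) (hti : TI Om y c) (hK : Mem Om c K) (hK' : Mem Om c K') (hne : K ≠ K')
    (ha : As K y a) (hb : As K' y b) (hk : k ∈ K) (hkk : k * k = c) (hk' : k' ∈ K') (hkk' : k' * k' = c)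
    (hak : a * k ≠ k * a) (hbk : b * k' ≠ k' * b) (hL : Mem Om y L) (hgL : cj (k * k') L = L) :
    y = a * b ∨ y = c * (a * b) := by
  have haa := (hti.symm h).sq_of_as h hK ha
  have hbb := (hti.symm h).sq_of_as h hK' hb
  obtain ⟨l, hl, hll⟩ := hti.exists_as h hL
  obtain ⟨-, -, r1⟩ := hti.rot h hL hK hl ha
  obtain ⟨-, -, r2⟩ := hti.rot h hL hK' hl hb
  have e1 := r1 k hk hkk hak
  have e2 := r2 k' hk' hkk' hbk
  have cc := hK.inZ.z2 h
  have hbK : ∀ k ∈ K, k * b = b * k := fun k hk => hK.comm hK' h hne hk hb.1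
  have hcK : ∀ k ∈ K, k * c = c * k := fun k hk => hK.comm_z h hk
  have hcK' : ∀ k ∈ K', k * c = c * k := fun k hk => hK'.comm_z h hk
  -- `l (k k') l⁻¹ (k k')⁻¹`
  have key : l * (k * k') * l⁻¹ * (k * k')⁻¹ = a * b ∨ l * (k * k') * l⁻¹ * (k * k')⁻¹ = c * (a * b) := by
    have h1 : l * (k * k') * l⁻¹ * (k * k')⁻¹ = (l * k * l⁻¹) * (l * k' * l⁻¹) * k'⁻¹ * k⁻¹ := by group
    rw [h1]
    rcases e1 with e1 | e1 <;> rcases e2 with e2 | e2
    · left
      rw [e1, e2]
      calc a * k * (b * k') * k'⁻¹ * k⁻¹ = a * (k * b) * k⁻¹ := by group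
        _ = a * b := by rw [hbK k hk]; group
    · right
      rw [e1, e2]
      calc a * k * (c * (b * k')) * k'⁻¹ * k⁻¹ = a * (k * c) * b * k⁻¹ := by group
        _ = a * (c * k) * b * k⁻¹ := by rw [hcK k hk]
        _ = (a * c) * (k * b) * k⁻¹ := by group
        _ = (c * a) * (b * k) * k⁻¹ := by rw [hcK a ha.1, hbK k hk]
        _ = _ := by group
    · right
      rw [e1, e2]
      calc c * (a * k) * (b * k') * k'⁻¹ * k⁻¹ = c * a * (k * b) * k⁻¹ := by group
        _ = c * a * (b * k) * k⁻¹ := by rw [hbK k hk]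
        _ = _ := by group
    · left
      rw [e1, e2]
      calc c * (a * k) * (c * (b * k')) * k'⁻¹ * k⁻¹ = c * a * (k * c) * b * k⁻¹ := by group
        _ = c * (a * c) * (k * b) * k⁻¹ := by rw [hcK k hk]; group
        _ = c * (c * a) * (b * k) * k⁻¹ := by rw [hcK a ha.1, hbK k hk]
        _ = (c * c) * a * b := by group
        _ = a * b := by rw [cc, one_mul]
  have hm : l * (k * k') * l⁻¹ * (k * k')⁻¹ ∈ L := by
    have h1 : (k * k') * l⁻¹ * (k * k')⁻¹ ∈ L := by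
      have h2 := conj_mem_cj (g := k * k') (inv_mem hl.1)
      rwa [hgL] at h2
    have h3 : l * (k * k') * l⁻¹ * (k * k')⁻¹ = l * ((k * k') * l⁻¹ * (k * k')⁻¹) := by group
    rw [h3]
    exact mul_mem hl.1 h1
  obtain ⟨m, hm'⟩ : ∃ m, m = l * (k * k') * l⁻¹ * (k * k')⁻¹ := ⟨_, rfl⟩
  rw [← hm'] at key hm
  have hab2 : (a * b) * (a * b) = 1 := by
    calc (a * b) * (a * b) = a * (b * a) * b := by group
      _ = (a * a) * (b * b) := by rw [← hbK a ha.1]; group
      _ = 1 := by rw [haa, hbb, cc]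
  have hne1 : a * b ≠ 1 := by
    intro h1
    have h2 : a = b⁻¹ := eq_inv_of_mul_eq_one_left h1
    rcases hK.inf hK' h hne ha.1 (by rw [h2]; exact inv_mem hb.1) with h3 | h3
    · rw [h3, one_mul] at haa; exact hK.inZ.z1 h haa.symm
    · rw [h3, cc] at haa; exact hK.inZ.z1 h haa.symm
  have hnec : c * (a * b) ≠ 1 := by
    intro h1
    have h2 : a = c⁻¹ * b⁻¹ := by
      have h4 : a * b = c⁻¹ := eq_inv_of_mul_eq_one_right h1
      rw [← h4]; group
    rcases hK.inf hK' h hne ha.1 (by rw [h2]; exact mul_mem (inv_mem (hK'.zmem h)) (inv_mem hb.1)) with h3 | h3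
    · rw [h3, one_mul] at haa; exact hK.inZ.z1 h haa.symm
    · rw [h3, cc] at haa; exact hK.inZ.z1 h haa.symm
  have hmm : m * m = 1 := by
    rcases key with h1 | h1
    · rw [h1, hab2]
    · rw [h1]
      calc c * (a * b) * (c * (a * b)) = c * a * (b * c) * (a * b) := by group
        _ = c * a * (c * b) * (a * b) := by rw [hcK' b hb.1]
        _ = c * (a * c) * b * (a * b) := by group
        _ = c * (c * a) * b * (a * b) := by rw [hcK a ha.1]
        _ = (c * c) * ((a * b) * (a * b)) := by group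
        _ = 1 := by rw [cc, hab2, one_mul]
  have hm1 : m ≠ 1 := by
    rcases key with h1 | h1
    · rw [h1]; exact hne1
    · rw [h1]; exact hnec
  rcases hL.sq_cases h hm with h1 | h1 | h1
  · exact (hm1 h1).elim
  · rwa [h1] at key
  · rw [hmm] at h1; exact (hL.inZ.z1 h h1.symm).elim

/-- the elements inner on the members over `v` act on `R_v` as `±1` -/
theorem Inn.RZ (hi : Inn Om z g) (h : WM Om) (hz : InZ Om z) (hr : r ∈ RZ Om z) :
    g * r * g⁻¹ = r ∨ g * r * g⁻¹ = z * r := by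
  obtain ⟨K, hK⟩ := hz
  obtain ⟨L, hL, hne, -⟩ := hK.other h
  obtain ⟨k, hk, l, hl, rfl⟩ := (mem_RZ hK hL h hne).1 hr
  have hzz := hK.inZ.z2 h
  have h1 : g * (k * l) * g⁻¹ = (g * k * g⁻¹) * (g * l * g⁻¹) := by group
  have hkz := hK.comm_z h hk
  rw [h1]
  rcases hi K hK k hk with h2 | h2 <;> rcases hi L hL l hl with h3 | h3
  · left; rw [h2, h3]
  · right
    rw [h2, h3, ← mul_assoc, hkz, mul_assoc]
  · right
    rw [h2, h3, mul_assoc]
  · left
    rw [h2, h3]
    calc z * k * (z * l) = z * (k * z) * l := by group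
      _ = z * (z * k) * l := by rw [hkz]
      _ = (z * z) * (k * l) := by group
      _ = _ := by rw [hzz, one_mul]

/-- `n, v ∈ R_c ∩ Z`, `n` inner at `v`: `n ∈ R_v` -/
theorem mem_RZ_of_inn (h : WM Om) (hti : TI Om v c) (hv : v ∈ RZ Om c) (hn : n ∈ RZ Om c)
    (hi : Inn Om v n) : n ∈ RZ Om v := by
  have hvZ := hti.inZ
  have hcZ := hti.inT
  obtain ⟨K, hK⟩ := hcZ
  obtain ⟨L, hL⟩ := hvZ
  have cc := hK.inZ.z2 h
  have vv := hL.inZ.z2 h
  have hvc := hti.comm
  obtain ⟨p, hp, -, hpc, hpv⟩ := hti.exists_mv h hK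
  obtain ⟨q, hq, -, hqv, hqc⟩ := (hti.symm h).exists_mv h hL
  -- `p v p⁻¹ = v c`, `q c q⁻¹ = c v`; `g = p⁻¹ q` maps `c` to `v`
  have e1 : p⁻¹ * (c * v) * p = v := by
    have h1 : c * v = p * v * p⁻¹ := by rw [hpv, hvc]
    rw [h1]; group
  have e2 : (p⁻¹ * q) * c * (p⁻¹ * q)⁻¹ = v := by
    calc (p⁻¹ * q) * c * (p⁻¹ * q)⁻¹ = p⁻¹ * (q * c * q⁻¹) * p := by group
      _ = v := by rw [hqc, e1]
  have hcV : c ∈ RZ Om v := (hti.symm h).mem_symm h hv
  have hvV : v ∈ RZ Om v := z_mem_RZ hL.inZ h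
  have hgn := RZ_conj h (p⁻¹ * q) hn
  rw [e2] at hgn
  have hpR : p ∈ RZ Om c := hK.le_RZ hp
  have hpi : ∀ r ∈ RZ Om c, p⁻¹ * r * p = r ∨ p⁻¹ * r * p = c * r := by
    intro r hr
    have := RZ_commutator h hK.inZ hr (inv_mem hpR)
    rwa [inv_inv] at this
  -- `q n q⁻¹ ∈ {n, v n}`
  have e3 : q * n * q⁻¹ = n ∨ q * n * q⁻¹ = v * n := by
    rcases hi L hL q hq with h1 | h1
    · left
      rw [mul_inv_eq_iff_eq_mul] at h1 ⊢
      exact h1.symm
    · right
      have h2 : n * q = v * q * n := by rw [← h1]; group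
      have hqv' : v * q = q * v := (hL.comm_z h hq).symm
      rw [mul_inv_eq_iff_eq_mul]
      calc q * n = (v * v) * q * n := by rw [vv, one_mul]
        _ = v * (v * q * n) := by group
        _ = v * (n * q) := by rw [h2]
        _ = _ := by group
  have hnc : ∀ r ∈ RZ Om c, r * c = c * r := fun r hr => RZ_le_centralizer h hr
  have key : ∃ t ∈ RZ Om v, (p⁻¹ * q) * n * (p⁻¹ * q)⁻¹ = t * n := by
    have h0 : (p⁻¹ * q) * n * (p⁻¹ * q)⁻¹ = p⁻¹ * (q * n * q⁻¹) * p := by group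
    rw [h0]
    rcases e3 with h1 | h1 <;> rw [h1]
    · rcases hpi n hn with h2 | h2
      · exact ⟨1, one_mem _, by rw [h2, one_mul]⟩
      · exact ⟨c, hcV, h2⟩
    · rcases hpi (v * n) (mul_mem hv hn) with h2 | h2
      · exact ⟨v, hvV, h2⟩
      · exact ⟨c * v, mul_mem hcV hvV, by rw [h2, mul_assoc]⟩
  obtain ⟨t, ht, h1⟩ := key
  have h2 : n = t⁻¹ * ((p⁻¹ * q) * n * (p⁻¹ * q)⁻¹) := by rw [h1, inv_mul_cancel_left]
  rw [h2]
  exact mul_mem (inv_mem ht) hgn

/-- rotating one component of full support away -/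
theorem exists_rot_off (h : WM Om) (hK : Mem Om c K) (hK' : Mem Om c K') (hne : K ≠ K')
    (ha : a ∈ K) (haa : a * a = c) (hk : k ∈ K) (hkk : k * k = c) (hb : b ∈ K') (hbb : b * b = c) (hk' : k' ∈ K')
    (hkk' : k' * k' = c) (hak : a * k = k * a) (hbk : b * k' ≠ k' * b) (hd : Rot c K d) :
    ∃ e, (e = d ∨ e = d * d) ∧ a * (e * k * e⁻¹) ≠ (e * k * e⁻¹) * a ∧ b * (e * k' * e⁻¹) ≠ (e * k' * e⁻¹) * b := by
  have cc := hK.inZ.z2 h
  -- on `K`
  have h1 : ∀ e, Rot c K e → a * (e * k * e⁻¹) ≠ (e * k * e⁻¹) * a := by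
    intro e he h2
    have h3 := he.nc h hK hk hkk
    apply h3
    rcases hK.of_comm h ha haa hk hak with h4 | h4 | h4 | h4
    · rw [h4, one_mul] at hkk; exact (hK.inZ.z1 h hkk.symm).elim
    · rw [h4, cc] at hkk; exact (hK.inZ.z1 h hkk.symm).elim
    · rw [h4] at h2 ⊢; exact h2
    · have hek : e * k * e⁻¹ ∈ K := by
        have := conj_mem_cj (g := e) hk
        rwa [he.1] at this
      rw [h4] at h2 hek ⊢
      have hc := hK.comm_z h hek
      calc c * a * (e * (c * a) * e⁻¹) = c * (a * (e * (c * a) * e⁻¹)) := by group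
        _ = c * ((e * (c * a) * e⁻¹) * a) := by rw [h2]
        _ = (c * (e * (c * a) * e⁻¹)) * a := by group
        _ = ((e * (c * a) * e⁻¹) * c) * a := by rw [hc]
        _ = _ := by group
  have hcd : d * c = c * d := hK.of_cj h hd.1
  have hdK' : cj d K' = K' := by
    rcases cj_cases h hK hK' hne hcd with ⟨-, h2⟩ | ⟨h2, -⟩
    · exact h2
    · exact (hne (hd.1.symm.trans h2)).elim
  by_cases h2 : b * (d * k' * d⁻¹) = (d * k' * d⁻¹) * b
  swap
  · exact ⟨d, Or.inl rfl, h1 d hd, h2⟩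
  by_cases h3 : b * ((d * d) * k' * (d * d)⁻¹) = ((d * d) * k' * (d * d)⁻¹) * b
  swap
  · exact ⟨d * d, Or.inr rfl, h1 _ (hd.sq h hK), h3⟩
  exfalso
  have m1 : d * k' * d⁻¹ ∈ K' := by
    have := conj_mem_cj (g := d) hk'
    rwa [hdK'] at this
  have m2 : (d * d) * k' * (d * d)⁻¹ ∈ K' := by
    have := conj_mem_cj (g := d) m1
    rw [hdK'] at this
    have h4 : (d * d) * k' * (d * d)⁻¹ = d * (d * k' * d⁻¹) * d⁻¹ := by group
    rw [h4]; exact this
  -- both are `b` or `c b`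
  have key : ∀ m ∈ K', m ≠ 1 → m ≠ c → b * m = m * b → m = b ∨ m = c * b := by
    intro m hm h4 h5 h6
    rcases hK'.of_comm h hb hbb hm h6 with h7 | h7 | h7 | h7
    · exact (h4 h7).elim
    · exact (h5 h7).elim
    · exact Or.inl h7
    · exact Or.inr h7
  have sq1 : (d * k' * d⁻¹) * (d * k' * d⁻¹) = c := by
    calc (d * k' * d⁻¹) * (d * k' * d⁻¹) = d * (k' * k') * d⁻¹ := by group
      _ = c := by rw [hkk', hcd, mul_inv_cancel_right]
  have hcne : c ≠ 1 := hK.inZ.z1 h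
  have ne1 : ∀ {m : G}, m * m = c → m ≠ 1 ∧ m ≠ c := by
    intro m hm
    constructor
    · rintro rfl; rw [one_mul] at hm; exact hcne hm.symm
    · rintro rfl; rw [cc] at hm; exact hcne hm.symm
  have sq2 : ((d * d) * k' * (d * d)⁻¹) * ((d * d) * k' * (d * d)⁻¹) = c := by
    calc ((d * d) * k' * (d * d)⁻¹) * ((d * d) * k' * (d * d)⁻¹) = d * ((d * k' * d⁻¹) * (d * k' * d⁻¹)) * d⁻¹ := by group
      _ = c := by rw [sq1, hcd, mul_inv_cancel_right]
  have k1 := key _ m1 (ne1 sq1).1 (ne1 sq1).2 h2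
  have k2 := key _ m2 (ne1 sq2).1 (ne1 sq2).2 h3
  have e4 : (d * d) * k' * (d * d)⁻¹ = d * (d * k' * d⁻¹) * d⁻¹ := by group
  have hcm : ∀ m ∈ K', d * (c * m) * d⁻¹ = c * (d * m * d⁻¹) := by
    intro m _
    calc d * (c * m) * d⁻¹ = (d * c) * m * d⁻¹ := by group
      _ = (c * d) * m * d⁻¹ := by rw [hcd]
      _ = _ := by group
  -- `d² k' d⁻² = d k' d⁻¹` up to `c`
  have e5 : (d * d) * k' * (d * d)⁻¹ = d * k' * d⁻¹ ∨ (d * d) * k' * (d * d)⁻¹ = c * (d * k' * d⁻¹) := by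
    rcases k1 with h4 | h4 <;> rcases k2 with h5 | h5
    · left; rw [h4, h5]
    · right; rw [h4, h5]
    · right; rw [h4, h5, ← mul_assoc, cc, one_mul]
    · left; rw [h4, h5]
  have e6 : d * k' * d⁻¹ = k' ∨ d * k' * d⁻¹ = c * k' := by
    rw [e4] at e5
    rcases e5 with h4 | h4
    · left
      exact mul_left_cancel (mul_right_cancel h4)
    · right
      rw [← hcm k' hk'] at h4
      exact mul_left_cancel (mul_right_cancel h4)
  apply hbk
  rcases e6 with h4 | h4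
  · rw [h4] at h2; exact h2
  · rw [h4] at h2
    have hcb : b * c = c * b := hK'.comm_z h hb
    have h5 : c * (b * k') = c * (k' * b) := by
      calc c * (b * k') = (c * b) * k' := by group
        _ = b * (c * k') := by rw [← hcb]; group
        _ = c * k' * b := h2
        _ = _ := by group
    exact mul_left_cancel h5

/-- **5.2 (II)** -/
theorem NSW.two_false (ns : NSW Om) (h : WM Om) (l0 : L0 Om) (an : ANT Om) (P : Sylow 2 G)
    (rot : RotS Om (P : Subgroup G)) (hc : c ∈ CS Om (P : Subgroup G)) (hc' : c' ∈ CS Om (P : Subgroup G)) (hcc : c ≠ c')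
    (hcv : CP Om c' v) (hvc : TI Om v c) (hqc : TI Om q c) (hqc' : TI Om q c') (hvq : v * q ≠ q * v) : False := by
  have hP := P.isPGroup'
  have hcp := CS.cp hc h hP hc' hcc
  have hcZ := CS.inZ hc
  have hc'Z := CS.inZ hc'
  have hvZ := hvc.inZ
  have hqZ := hqc.inZ
  have cc := hcZ.z2 h
  obtain ⟨r, hr, r', hr', -, -, hrr, -, -, -, hqr, -, hq⟩ := link h hcp hqc hqc'
  have hvX : v ∈ CX Om c' := cp_cx h hvZ hcv
  have hvr' : v * r' = r' * v := CX_comm hr' hvX
  have hvr : v * r ≠ r * v := by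
    intro h1
    apply hvq
    rw [hq]
    calc v * (r * r') = (v * r) * r' := by group
      _ = r * (v * r') := by rw [h1]; group
      _ = r * (r' * v) := by rw [hvr']
      _ = _ := by group
  -- the key
  have key : ∀ (K K' : Subgroup G) (a b k k' : G), Mem Om c K → Mem Om c K' → K ≠ K' → As K v a → As K' v b →
      k ∈ K → k' ∈ K' → k * k = c → k' * k' = c → r = k * k' → a * k = k * a → b * k' ≠ k' * b → False := by
    intro K K' a b k k' hK hK' hne ha hb hk hk' hkk hkk' hrk hak hbk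
    have haa := (hvc.symm h).sq_of_as h hK ha
    have hbb := (hvc.symm h).sq_of_as h hK' hb
    obtain ⟨d, hd, hdT⟩ := rot c K hK (CS.le hc h hK)
    obtain ⟨e, he, h1, h2⟩ := exists_rot_off h hK hK' hne ha.1 haa hk hkk hb.1 hbb hk' hkk' hak hbk hd
    have heR : Rot c K e := by
      rcases he with rfl | rfl
      · exact hd
      · exact hd.sq h hK
    have heT : ∀ t ∈ TT Om (P : Subgroup G), e * t = t * e := by
      intro t ht
      rcases he with rfl | rfl
      · exact hdT t ht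
      · rw [mul_assoc, hdT t ht, ← mul_assoc, hdT t ht, mul_assoc]
    have hec := heT c (CS.mem_TT hc)
    have hec' := heT c' (CS.mem_TT hc')
    have heK' : cj e K' = K' := by
      rcases cj_cases h hK hK' hne hec with ⟨-, h3⟩ | ⟨h3, -⟩
      · exact h3
      · exact (hne (heR.1.symm.trans h3)).elim
    obtain ⟨k1, hk1⟩ : ∃ k1, k1 = e * k * e⁻¹ := ⟨_, rfl⟩
    obtain ⟨l1, hl1⟩ : ∃ l1, l1 = e * k' * e⁻¹ := ⟨_, rfl⟩
    obtain ⟨s1, hs1⟩ : ∃ s1, s1 = e * r' * e⁻¹ := ⟨_, rfl⟩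
    obtain ⟨q1, hq1⟩ : ∃ q1, q1 = e * q * e⁻¹ := ⟨_, rfl⟩
    rw [← hk1] at h1
    rw [← hl1] at h2
    have hk1K : k1 ∈ K := by
      have := conj_mem_cj (g := e) hk
      rwa [heR.1, ← hk1] at this
    have hl1K : l1 ∈ K' := by
      have := conj_mem_cj (g := e) hk'
      rwa [heK', ← hl1] at this
    have hece : e * c * e⁻¹ = c := by rw [hec, mul_inv_cancel_right]
    have hkk1 : k1 * k1 = c := by
      rw [hk1]
      calc e * k * e⁻¹ * (e * k * e⁻¹) = e * (k * k) * e⁻¹ := by group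
        _ = c := by rw [hkk, hece]
    have hll1 : l1 * l1 = c := by
      rw [hl1]
      calc e * k' * e⁻¹ * (e * k' * e⁻¹) = e * (k' * k') * e⁻¹ := by group
        _ = c := by rw [hkk', hece]
    have hs1R : s1 ∈ RZ Om c' := by
      rw [hs1]; exact RZ_conj_comm h hec' hr'
    have hq1e : q1 = (k1 * l1) * s1 := by
      rw [hq1, hq, hrk, hk1, hl1, hs1]; group
    -- `v` commutes with `k₁ l₁`
    have hvk : v * (k1 * l1) = (k1 * l1) * v := by
      rw [← mul_inv_eq_iff_eq_mul]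
      have e1 : v * k1 * v⁻¹ = c * k1 := by
        rw [ha.2 k1 hk1K]
        exact hK.anti h hk1K hkk1 ha.1 haa (fun h3 => h1 h3.symm)
      have e2 : v * l1 * v⁻¹ = c * l1 := by
        rw [hb.2 l1 hl1K]
        exact hK'.anti h hl1K hll1 hb.1 hbb (fun h3 => h2 h3.symm)
      have hck := hK.comm_z h hk1K
      calc v * (k1 * l1) * v⁻¹ = (v * k1 * v⁻¹) * (v * l1 * v⁻¹) := by group
        _ = (c * k1) * (c * l1) := by rw [e1, e2]
        _ = c * (k1 * c) * l1 := by group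
        _ = c * (c * k1) * l1 := by rw [hck]
        _ = (c * c) * (k1 * l1) := by group
        _ = _ := by rw [cc, one_mul]
    have hvs : v * s1 = s1 * v := CX_comm hs1R hvX
    have hq1v : q1 * v = v * q1 := by
      rw [hq1e]
      calc (k1 * l1) * s1 * v = (k1 * l1) * (s1 * v) := by group
        _ = (k1 * l1) * (v * s1) := by rw [hvs]
        _ = ((k1 * l1) * v) * s1 := by group
        _ = (v * (k1 * l1)) * s1 := by rw [hvk]
        _ = _ := by group
    have hq1c : q1 * c' = c' * q1 := by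
      rw [hq1]
      calc e * q * e⁻¹ * c' = e * q * (e⁻¹ * c' * e) * e⁻¹ := by group
        _ = e * q * c' * e⁻¹ := by
            rw [show e⁻¹ * c' * e = c' by rw [mul_assoc, ← hec', inv_mul_cancel_left]]
        _ = e * (q * c') * e⁻¹ := by group
        _ = e * (c' * q) * e⁻¹ := by rw [hqc'.comm]
        _ = (e * c') * q * e⁻¹ := by group
        _ = _ := by rw [hec']; group
    have hq1Z : InZ Om q1 := by rw [hq1]; exact hqZ.conj h e
    have hc'1 := hc'Z.z1 h
    have hvS : v ∈ ZS Om c' := ⟨hvZ, cp_cx h hc'Z hcv.symm⟩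
    obtain ⟨Q, hQ1, hQ2, -, hQ3⟩ := exists_psi h P (CS.mem_TT hc') hvS hq1Z hq1c hq1v
    have hQ4 : c' ∈ CS Om (Q : Subgroup G) := mem_CS_of_mem_TT h Q hc'Z hQ1
    have i1 : Inn Om v q1 := ns.inn_psi h l0 an Q hQ2 hQ4 hcv.1.symm hQ3 hQ2
    have i2 : Inn Om v s1 := Inn.of_CX (mem_CX.2 fun M hM m hm => cp_RZ h hcv hs1R (hM.le_RZ hm))
    have i3 : Inn Om v (k1 * l1) := by
      rw [hq1e] at i1
      exact Inn.mul_right i2 i1 hvZ h
    obtain ⟨L, hL⟩ := hvZ
    have hvR : v ∈ RZ Om c := by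
      have habR : a * b ∈ RZ Om c := mul_mem (hK.le_RZ ha.1) (hK'.le_RZ hb.1)
      rcases swp_lemma h hvc hK hK' hne ha hb hk1K hkk1 hl1K hll1 h1 h2 hL (i3.cj_eq hL h) with h3 | h3
      · rw [h3]; exact habR
      · rw [h3]; exact mul_mem (z_mem_RZ hcZ h) habR
    -- `n = v^e`
    obtain ⟨n, hn⟩ : ∃ n, n = e * v * e⁻¹ := ⟨_, rfl⟩
    have hnS : n ∈ ZS Om c' := by
      rw [hn]; exact ZS_conj h hvS hec'
    have hnR : n ∈ RZ Om c := by
      rw [hn]; exact RZ_conj_comm h hec hvR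
    have i4 : Inn Om v n := ns.inn h l0 an P (CS.mem_TT hc') hc'1 hvS (mem_NZ hnS)
    have hnV := mem_RZ_of_inn h hvc hvR hnR i4
    have e3 : v * r * v⁻¹ = c * r := by
      have e1 : v * k * v⁻¹ = k := by
        rw [ha.2 k hk, hak, mul_inv_cancel_right]
      have e2 : v * k' * v⁻¹ = c * k' := by
        rw [hb.2 k' hk']
        exact hK'.anti h hk' hkk' hb.1 hbb (fun h3 => hbk h3.symm)
      rw [hrk]
      calc v * (k * k') * v⁻¹ = (v * k * v⁻¹) * (v * k' * v⁻¹) := by group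
        _ = (k * c) * k' := by rw [e1, e2]; group
        _ = _ := by rw [hK.comm_z h hk]; group
    have e4 : r * v * r⁻¹ = c * v := by
      have h3 : v * r = c * r * v := by rw [← e3]; group
      have hrc : r * c = c * r := RZ_le_centralizer h hr
      rw [mul_inv_eq_iff_eq_mul]
      calc r * v = (c * c) * r * v := by rw [cc, one_mul]
        _ = c * (c * r * v) := by group
        _ = c * (v * r) := by rw [h3]
        _ = _ := by group
    have e5 : (k1 * l1) * n * (k1 * l1)⁻¹ = c * n := by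
      have h3 : k1 * l1 = e * r * e⁻¹ := by rw [hrk, hk1, hl1]; group
      rw [h3, hn]
      calc e * r * e⁻¹ * (e * v * e⁻¹) * (e * r * e⁻¹)⁻¹ = e * (r * v * r⁻¹) * e⁻¹ := by group
        _ = e * (c * v) * e⁻¹ := by rw [e4]
        _ = (e * c * e⁻¹) * (e * v * e⁻¹) := by group
        _ = _ := by rw [hece]
    rcases i3.RZ h hL.inZ hnV with h3 | h3
    · rw [e5] at h3
      exact hcZ.z1 h (mul_eq_right.1 h3)
    · rw [e5] at h3
      exact hvc.ne (mul_right_cancel h3).symm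
  obtain ⟨K, hK⟩ := hcZ
  obtain ⟨K', hK', hne, -⟩ := hK.other h
  obtain ⟨a, ha, haa⟩ := (hvc.symm h).exists_as h hK
  obtain ⟨b, hb, hbb⟩ := (hvc.symm h).exists_as h hK'
  obtain ⟨k, hk, k', hk', hrk⟩ := (mem_RZ hK hK' h hne).1 hr
  have hkk : k * k = c := by
    have h1 : As K (k * k') (k * 1) := (As.self hk).mul (hK.as_one hK' h hne hk')
    have h2 : As K (q * r) 1 := As.one_iff.2 (mem_CX.1 hqr K hK)
    rw [hrk, mul_one] at h1
    have h3 := h2.mul h1.inv
    rw [mul_inv_cancel_right, one_mul] at h3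
    have h4 := (hqc.symm h).sq_of_as h hK h3
    rw [← mul_inv_rev] at h4
    rw [← inv_inv (k * k), h4, hK.inZ.inv h]
  have hkk' : k' * k' = c := by
    have h1 : As K' (k * k') (1 * k') := (hK'.as_one hK h hne.symm hk).mul (As.self hk')
    have h2 : As K' (q * r) 1 := As.one_iff.2 (mem_CX.1 hqr K' hK')
    rw [hrk, one_mul] at h1
    have h3 := h2.mul h1.inv
    rw [mul_inv_cancel_right, one_mul] at h3
    have h4 := (hqc.symm h).sq_of_as h hK' h3
    rw [← mul_inv_rev] at h4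
    rw [← inv_inv (k' * k'), h4, hK.inZ.inv h]
  have hkk'c : k * k' = k' * k := hK.comm hK' h hne hk hk'
  by_cases hak : a * k = k * a <;> by_cases hbk : b * k' = k' * b
  · apply hvr
    rw [← mul_inv_eq_iff_eq_mul, ← hrk]
    calc v * (k * k') * v⁻¹ = (v * k * v⁻¹) * (v * k' * v⁻¹) := by group
      _ = (a * k * a⁻¹) * (b * k' * b⁻¹) := by rw [ha.2 k hk, hb.2 k' hk']
      _ = k * k' := by rw [hak, hbk, mul_inv_cancel_right, mul_inv_cancel_right]
  · exact key K K' a b k k' hK hK' hne ha hb hk hk' hkk hkk' hrk.symm hak hbk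
  · exact key K' K b a k' k hK' hK hne.symm hb ha hk' hk hkk' hkk (hrk.symm.trans hkk'c) hbk hak
  · apply hvr
    rw [← mul_inv_eq_iff_eq_mul, ← hrk]
    have e1 : a * k * a⁻¹ = c * k := hK.anti h hk hkk ha.1 haa (fun h3 => hak h3.symm)
    have e2 : b * k' * b⁻¹ = c * k' := hK'.anti h hk' hkk' hb.1 hbb (fun h3 => hbk h3.symm)
    have hck := hK.comm_z h hk
    calc v * (k * k') * v⁻¹ = (v * k * v⁻¹) * (v * k' * v⁻¹) := by group
      _ = (a * k * a⁻¹) * (b * k' * b⁻¹) := by rw [ha.2 k hk, hb.2 k' hk']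
      _ = c * (k * c) * k' := by rw [e1, e2]; group
      _ = c * (c * k) * k' := by rw [hck]
      _ = (c * c) * (k * k') := by group
      _ = _ := by rw [cc, one_mul]

/-- `T_S` for `C_S = {c, c'}` -/
theorem TT_of_two (h : WM Om) {S : Subgroup G} (hS : IsPGroup 2 S) (hc : c ∈ CS Om S) (hc' : c' ∈ CS Om S)
    (hall : ∀ w ∈ CS Om S, w = c ∨ w = c') {t : G} (ht : t ∈ TT Om S) : t = 1 ∨ t = c ∨ t = c' ∨ t = c * c' := by
  have cc := (CS.inZ hc).z2 h
  have cc' := (CS.inZ hc').z2 h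
  have hcm : c * c' = c' * c := CS.comm hc h hS hc'
  induction ht using closure_induction with
  | mem w hw =>
    rcases hall w hw with h1 | h1
    · exact Or.inr (Or.inl h1)
    · exact Or.inr (Or.inr (Or.inl h1))
  | one => exact Or.inl rfl
  | mul a b _ _ iha ihb =>
    have e1 : c * (c * c') = c' := by rw [← mul_assoc, cc, one_mul]
    have e2 : c' * c = c * c' := hcm.symm
    have e3 : c' * (c * c') = c := by rw [hcm, ← mul_assoc, cc', one_mul]
    have e4 : c * c' * c = c' := by rw [hcm, mul_assoc, cc, mul_one]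
    have e5 : c * c' * c' = c := by rw [mul_assoc, cc', mul_one]
    have e6 : c * c' * (c * c') = 1 := by rw [← mul_assoc, e4, cc']
    rcases iha with h1 | h1 | h1 | h1 <;> rcases ihb with h2 | h2 | h2 | h2 <;> rw [h1, h2] <;>
      simp only [one_mul, mul_one, cc, cc', e1, e2, e3, e4, e5, e6, true_or, or_true]
  | inv a _ iha =>
    have e6 : (c * c')⁻¹ = c * c' := by
      rw [mul_inv_rev, (CS.inZ hc).inv h, (CS.inZ hc').inv h, hcm]
    rcases iha with rfl | rfl | rfl | rfl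
    · exact Or.inl inv_one
    · exact Or.inr (Or.inl ((CS.inZ hc).inv h))
    · exact Or.inr (Or.inr (Or.inl ((CS.inZ hc').inv h)))
    · exact Or.inr (Or.inr (Or.inr e6))

/-- **NS, `m = 2`: `CENT`** -/
theorem NSW.cent (ns : NSW Om) (h : WM Om) (l0 : L0 Om) (an : ANT Om) (rot : ∀ S : Sylow 2 G, RotS Om (S : Subgroup G))
    (h2 : ∀ S : Sylow 2 G, (CS Om (S : Subgroup G)).ncard = 2) : CENT Om := by
  intro S x hx hxS s hs hs1 y hy
  by_contra hxy
  have hS := S.isPGroup'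
  have hxs : x * s = s * x := Psi.comm_TT h l0 hS ⟨hx, hxS⟩ hs
  have hxx := hx.z2 h
  have hxi := hx.inv h
  obtain ⟨y', hy'⟩ : ∃ y', y' = x * y * x⁻¹ := ⟨_, rfl⟩
  have hy'S : y' ∈ ZS Om s := by rw [hy']; exact ZS_conj h hy hxs
  have hyy := hy.1.z2 h
  have hne : y ≠ y' := by
    intro h1
    apply hxy
    rw [hy', eq_mul_inv_iff_mul_eq] at h1
    exact h1.symm
  have hcm : y * y' = y' * y := ZS_comm h l0 (an S s hs hs1) hy hy'S
  have hti : TI Om y y' := by
    rcases (ns.inn h l0 an S hs hs1 hy (mem_NZ hy'S)).cases h hy.1 hy'S.1 with h1 | h1 | h1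
    · exact (hne h1).elim
    · rw [hy'] at h1; exact (l0 y x hy.1 hx h1).elim
    · exact h1
  -- `c = y y'`
  obtain ⟨c, hc⟩ : ∃ c, c = y * y' := ⟨_, rfl⟩
  have hcS : c ∈ ZS Om s := by
    obtain ⟨L, hL⟩ := hti.inT
    obtain ⟨v, hv, -, -, hvy⟩ := hti.exists_mv h hL
    rw [hc, ← hvy]
    exact ZS_conj h hy (ZS_RZ hy'S (hL.le_RZ hv))
  have hxc : x * c = c * x := by
    have e1 : x * y' * x⁻¹ = y := by
      rw [hy', hxi]
      calc x * (x * y * x) * x = (x * x) * y * (x * x) := by group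
        _ = y := by rw [hxx, one_mul, mul_one]
    rw [← mul_inv_eq_iff_eq_mul, hc]
    calc x * (y * y') * x⁻¹ = (x * y * x⁻¹) * (x * y' * x⁻¹) := by group
      _ = y' * y := by rw [e1, ← hy']
      _ = _ := hcm.symm
  obtain ⟨P, hP1, hP2, -, hP3⟩ := exists_psi h S hs hcS hx hxs hxc
  have hPp := P.isPGroup'
  have hPy : Psi Om (P : Subgroup G) y := Psi.of_ZS h l0 an P hP1 hs1 hy
  obtain ⟨c', hc', hcc, hall⟩ : ∃ c' ∈ CS Om (P : Subgroup G), c ≠ c' ∧ ∀ w ∈ CS Om (P : Subgroup G), w = c ∨ w = c' := by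
    obtain ⟨a, b, hab, hP⟩ := Set.ncard_eq_two.1 (h2 P)
    rw [hP] at hP2 ⊢
    rcases hP2 with h3 | h3
    · exact ⟨b, Or.inr rfl, by rw [h3]; exact hab, fun w hw => by
        rcases hw with h4 | h4
        · exact Or.inl (h4.trans h3.symm)
        · exact Or.inr h4⟩
    · rw [Set.mem_singleton_iff] at h3
      exact ⟨a, Or.inl rfl, by rw [h3]; exact hab.symm, fun w hw => by
        rcases hw with h4 | h4
        · exact Or.inr h4
        · exact Or.inl (by rw [Set.mem_singleton_iff] at h4; exact h4.trans h3.symm)⟩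
  have hcZ := CS.inZ hP2
  have hc'Z := CS.inZ hc'
  have hTT : ∀ t ∈ TT Om (P : Subgroup G), t = 1 ∨ t = c ∨ t = c' ∨ t = c * c' := fun t ht =>
    TT_of_two h hPp hP2 hc' hall ht
  have hcp := CS.cp hP2 h hPp hc' hcc
  -- `(y, c)` type I
  have htc : TI Om y c := by
    rcases (ns.inn h l0 an S hs hs1 hy (mem_NZ hcS)).cases h hy.1 hcZ with h1 | h1 | h1
    · exfalso
      rw [hc] at h1
      exact hy'S.1.z1 h (mul_eq_left.1 h1.symm)
    · exfalso
      have h3 : c ∈ CX Om y := cp_cx h hcZ h1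
      have h4 : y' ∈ CX Om y := by
        have h5 : y' = y * c := by rw [hc, ← mul_assoc, hyy, one_mul]
        rw [h5]; exact mul_mem (z_mem_CX h) h3
      exact (hti.symm h).not_mem_CX h h4
    · exact h1
  -- `(x, c)` type I
  have hxy' : x * y * x⁻¹ = y * c := by rw [hc, ← mul_assoc, hyy, one_mul, hy']
  obtain ⟨w, hw, hyw⟩ : ∃ w ∈ RZ Om c, y * w ∈ CX Om c := by
    rcases htc.dich h with h1 | ⟨q, -, hq, -, -, h3⟩
    · exact ⟨y, h1, by rw [hyy]; exact one_mem _⟩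
    · exact ⟨q, hq, h3⟩
  have hxw := htc.key2 h hxy' hxc hw hyw
  have hxcX : x ∉ CX Om c := by
    intro h1
    rw [CX_comm hw h1, mul_inv_cancel_right] at hxw
    exact hcZ.z1 h (mul_eq_right.1 hxw.symm)
  have htx : TI Om c x := by
    rcases (ns.inn_psi h l0 an P hP2 hc' hcc hP3 hP2).cases h hcZ hx with h1 | h1 | h1
    · exact (hxcX (by rw [← h1]; exact z_mem_CX h)).elim
    · exact (hxcX (cp_cx h hx h1)).elim
    · exact h1
  have hcy : c ∉ CX Om y := (htc.symm h).not_mem_CX h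
  have hcx : c ∉ CX Om x := htx.not_mem_CX h
  obtain ⟨s1, hs1T, hs11, hs1x⟩ := ns.exists_t h l0 an P hP2 hc' hcc hP3
  have hno : ∀ t ∈ TT Om (P : Subgroup G), t ≠ 1 → t ∈ CX Om x → t ∈ CX Om y → False := by
    intro t ht ht1 htx hty
    exact hxy (ZS_comm h l0 (an P t ht ht1) ⟨hx, htx⟩ ⟨hy.1, hty⟩)
  have hti' : ∀ u, Psi Om (P : Subgroup G) u → c * c' ∈ CX Om u → c ∉ CX Om u → TI Om u c' := by
    intro u hu h1 h3
    have h4 : c' ∉ CX Om u := by
      intro h5
      apply h3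
      have h6 : c = (c * c') * c' := by rw [mul_assoc, hc'Z.z2 h, mul_one]
      rw [h6]; exact mul_mem h1 h5
    rcases (ns.inn_psi h l0 an P hP2 hc' hcc hu hc').cases h hc'Z hu.1 with h5 | h5 | h5
    · exact (h4 (by rw [h5]; exact z_mem_CX h)).elim
    · exact (h4 (cp_cx h hc'Z h5.symm)).elim
    · exact h5.symm h
  have hcp' : ∀ v, TI Om v c → c' ∈ CX Om v → CP Om c' v := by
    intro v hv h1
    rcases (cen_iff h hv.inZ hc'Z).1 h1 with h3 | h3
    · exfalso
      rw [h3] at hv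
      exact hv.not_cp h hcp.symm
    · exact h3.symm
  have hrP := rot P
  have hxyn : x * y ≠ y * x := hxy
  rcases hTT s hP1 with h3 | h3 | h3 | h3
  · exact hs1 h3
  · exact hcy (h3 ▸ hy.2)
  · rcases hTT s1 hs1T with h4 | h4 | h4 | h4
    · exact hs11 h4
    · exact hcx (h4 ▸ hs1x)
    · exact hno s hP1 hs1 (by rw [h3, ← h4]; exact hs1x) hy.2
    · exact ns.two_false h l0 an P hrP hP2 hc' hcc (hcp' y htc (h3 ▸ hy.2)) htc (htx.symm h)
        (hti' x hP3 (h4 ▸ hs1x) hcx) (fun h5 => hxy h5.symm)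
  · rcases hTT s1 hs1T with h4 | h4 | h4 | h4
    · exact hs11 h4
    · exact hcx (h4 ▸ hs1x)
    · exact ns.two_false h l0 an P hrP hP2 hc' hcc (hcp' x (htx.symm h) (h4 ▸ hs1x)) (htx.symm h) htc
        (hti' y hPy (h3 ▸ hy.2) hcy) hxy
    · exact hno s hP1 hs1 (by rw [h3, ← h4]; exact hs1x) hy.2

end Fin

end Cfsg.Agent.Cit.Nil.RTwoM
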