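import Cfsg.Agent.Cit.Nil.RTwoM.Star

/-!
# S1309, (6b), (C3), `r = 2`, any `m`, `LAMBDA0`: the interface between 4.1 and 5.1 (helper762's text)

* `RegSW Om` : over each `w ∈ C_P` there is a self-centralising `B ≤ R_w` which `Z ∩ C(T_P)` centralises.
-/

set_option autoImplicit false

namespace Cfsg.Agent.Cit.Nil.RTwoM

open Subgroup Cfsg Cfsg.Agent.Cit
open RI (CS)

variable {G : Type*} [Group G]

/-- world SW: the elements of `Z` normalising `C_P` centralise a self-centralising subgroup of `R_w`, `w ∈ C_P` -/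
def RegSW (Om : Set (Subgroup G)) : Prop := ∀ (P : Sylow 2 G), ∀ w ∈ CS Om (P : Subgroup G), ∃ B : Subgroup G,
  B ≤ RZ Om w ∧ (∀ r ∈ RZ Om w, (∀ b ∈ B, r * b = b * r) → r ∈ B) ∧
    ∀ x, InZ Om x → NCS Om (P : Subgroup G) x → ∀ b ∈ B, x * b = b * x

end Cfsg.Agent.Cit.Nil.RTwoM
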