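import Cfsg.Agent.Cit.Nil.RTwoM.JArg

/-!
# S1309, (6b), (C3), `r = 2`, any `m`, `LAMBDA0`: LEMMA SWP of section 5.2 (helper762)

* `RZ_parts` : an involution of `R_c - ⟨c⟩` is `k k'`, `k`, `k'` of order 4 in the two members;
* **`TI.swp_lemma`** : `(c, y)` type I, `w ∈ R_c` acting as `y` on `R_c`, `g ∈ R_c - ⟨c⟩` an involution commuting
  with `w`, `g ∉ w⟨c⟩`: if `g` normalises a member over `y` then `y ∈ R_c`.
-/

set_option autoImplicit false
set_option linter.style.haveILetI false
set_option linter.unusedSectionVars false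

namespace Cfsg.Agent.Cit.Nil.RTwoM

open Subgroup Cfsg Cfsg.Agent.Cit

open RG (WR CP Ov InO Tr)
open RI (CS)

variable {G : Type*} [Group G] {Om : Set (Subgroup G)} {K L M : Subgroup G}
  {a b c d g g' k l m n r s t u v w x y z : G}

section Fin

variable [Finite G]

/-- an involution of `R_c - ⟨c⟩` -/
theorem RZ_parts (h : WM Om) (hK : Mem Om c K) (hK' : Mem Om c M) (hne : K ≠ M) (hg : g ∈ RZ Om c) (hgg : g * g = 1)
    (hg1 : g ≠ 1) (hgc : g ≠ c) : ∃ k ∈ K, ∃ k' ∈ M, k * k = c ∧ k' * k' = c ∧ g = k * k' := by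
  obtain ⟨k, hk, k', hk', rfl⟩ := (mem_RZ hK hK' h hne).1 hg
  have hcc := hK.inZ.z2 h
  have hc1 := hK.inZ.z1 h
  have hcm : k' * k = k * k' := (hK.comm hK' h hne hk hk').symm
  have h2 : (k * k) * (k' * k') = 1 := by
    rw [← hgg]
    calc (k * k) * (k' * k') = k * (k * k') * k' := by group
      _ = k * (k' * k) * k' := by rw [hcm]
      _ = _ := by group
  refine ⟨k, hk, k', hk', ?_, ?_, rfl⟩
  · rcases hK.sq_cases h hk with rfl | rfl | h1
    · exfalso
      rw [one_mul, one_mul] at h2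
      rcases hK'.sq_cases h hk' with rfl | rfl | h3
      · exact hg1 (one_mul 1)
      · exact hgc (one_mul _)
      · rw [h3] at h2; exact hc1 h2
    · exfalso
      rw [hcc, one_mul] at h2
      rcases hK'.sq_cases h hk' with rfl | rfl | h3
      · exact hgc (mul_one _)
      · exact hg1 hcc
      · rw [h3] at h2; exact hc1 h2
    · exact h1
  · rcases hK'.sq_cases h hk' with rfl | rfl | h1
    · exfalso
      rw [one_mul, mul_one] at h2
      rcases hK.sq_cases h hk with rfl | rfl | h3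
      · exact hg1 (one_mul 1)
      · exact hgc (mul_one _)
      · rw [h3] at h2; exact hc1 h2
    · exfalso
      rw [hcc, mul_one] at h2
      rcases hK.sq_cases h hk with rfl | rfl | h3
      · exact hgc (one_mul _)
      · exact hg1 hcc
      · rw [h3] at h2; exact hc1 h2
    · exact h1

/-- **LEMMA SWP** -/
theorem TI.swp_lemma (hti : TI Om c y) (h : WM Om) (hw : w ∈ RZ Om c) (hyw : y * w ∈ CX Om c) (hg : g ∈ RZ Om c)
    (hgg : g * g = 1) (hg1 : g ≠ 1) (hgc : g ≠ c) (hgw : g * w = w * g) (hne : g ≠ w) (hne' : g ≠ c * w)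
    (hL : Mem Om y L) (hgL : cj g L = L) : y ∈ RZ Om c := by
  obtain ⟨K, hK⟩ := hti.inZ
  obtain ⟨M, hM, hKM, -⟩ := hK.other h
  have hcc := hK.inZ.z2 h
  have hc1 := hK.inZ.z1 h
  -- `w = a b`
  obtain ⟨a, ha, b, hb, hwab'⟩ := (mem_RZ hK hM h hKM).1 hw
  have hwab : w = a * b := hwab'.symm
  have wa : As K w a := by
    have := (As.self ha).mul (hK.as_one hM h hKM hb)
    rwa [mul_one, ← hwab] at this
  have wb : As M w b := by
    have := (hM.as_one hK h hKM.symm ha).mul (As.self hb)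
    rwa [one_mul, ← hwab] at this
  obtain ⟨a', ya, haa'⟩ := hti.exists_as h hK
  obtain ⟨b', yb, hbb'⟩ := hti.exists_as h hM
  have e1 : a * a = c := by
    have h1 := ya.mul wa
    rcases hK.as_center h h1 (As.one_iff.2 (mem_CX.1 hyw K hK)) with h2 | h2
    · have h3 : a = a'⁻¹ := (inv_eq_of_mul_eq_one_right h2).symm
      rw [h3, ← mul_inv_rev, haa', hK.inZ.inv h]
    · have h3 : a = a'⁻¹ * c := by rw [← h2, inv_mul_cancel_left]
      have h4 : c * a'⁻¹ = a'⁻¹ * c := (hK.comm_z h (inv_mem ya.1)).symm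
      rw [h3]
      calc a'⁻¹ * c * (a'⁻¹ * c) = a'⁻¹ * (c * a'⁻¹) * c := by group
        _ = (a' * a')⁻¹ * (c * c) := by rw [h4]; group
        _ = c := by rw [haa', hcc, mul_one, hK.inZ.inv h]
  have e2 : b * b = c := by
    have h1 := yb.mul wb
    rcases hM.as_center h h1 (As.one_iff.2 (mem_CX.1 hyw M hM)) with h2 | h2
    · have h3 : b = b'⁻¹ := (inv_eq_of_mul_eq_one_right h2).symm
      rw [h3, ← mul_inv_rev, hbb', hK.inZ.inv h]
    · have h3 : b = b'⁻¹ * c := by rw [← h2, inv_mul_cancel_left]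
      have h4 : c * b'⁻¹ = b'⁻¹ * c := (hM.comm_z h (inv_mem yb.1)).symm
      rw [h3]
      calc b'⁻¹ * c * (b'⁻¹ * c) = b'⁻¹ * (c * b'⁻¹) * c := by group
        _ = (b' * b')⁻¹ * (c * c) := by rw [h4]; group
        _ = c := by rw [hbb', hcc, mul_one, hK.inZ.inv h]
  -- `y` acts as `a`, `b`
  have ya2 : As K y a := by
    have h1 := (As.one_iff.2 (mem_CX.1 hyw K hK)).mul wa.inv
    rw [mul_inv_cancel_right, one_mul] at h1
    refine ⟨ha, fun k hk => ?_⟩
    have h3 : c * k * c⁻¹ = k := by rw [← hK.comm_z h hk, mul_inv_cancel_right]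
    calc y * k * y⁻¹ = a⁻¹ * k * a⁻¹⁻¹ := h1.2 k hk
      _ = a⁻¹ * (c * k * c⁻¹) * a⁻¹⁻¹ := by rw [h3]
      _ = a⁻¹ * (a * a * k * (a * a)⁻¹) * a⁻¹⁻¹ := by rw [e1]
      _ = _ := by group
  have yb2 : As M y b := by
    have h1 := (As.one_iff.2 (mem_CX.1 hyw M hM)).mul wb.inv
    rw [mul_inv_cancel_right, one_mul] at h1
    refine ⟨hb, fun k hk => ?_⟩
    have h3 : c * k * c⁻¹ = k := by rw [← hM.comm_z h hk, mul_inv_cancel_right]
    calc y * k * y⁻¹ = b⁻¹ * k * b⁻¹⁻¹ := h1.2 k hk
      _ = b⁻¹ * (c * k * c⁻¹) * b⁻¹⁻¹ := by rw [h3]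
      _ = b⁻¹ * (b * b * k * (b * b)⁻¹) * b⁻¹⁻¹ := by rw [e2]
      _ = _ := by group
  -- `g = p q`
  obtain ⟨p, hp, q, hq, hpp, hqq, hgpq⟩ := RZ_parts h hK hM hKM hg hgg hg1 hgc
  have cpq : q * p = p * q := (hK.comm hM h hKM hp hq).symm
  have cpb : p * b = b * p := hK.comm hM h hKM hp hb
  have caq : a * q = q * a := hK.comm hM h hKM ha hq
  have cab : b * a = a * b := (hK.comm hM h hKM ha hb).symm
  have cca : c * a = a * c := (hK.comm_z h ha).symm
  have ccb : c * b = b * c := (hM.comm_z h hb).symm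
  have ccp : c * p = p * c := (hK.comm_z h hp).symm
  have ccq : c * q = q * c := (hM.comm_z h hq).symm
  have hiff : a * p = p * a ↔ b * q = q * b := by
    have e3 : g * w = (p * a) * (q * b) := by
      rw [hgpq, hwab]
      calc p * q * (a * b) = p * (q * a) * b := by group
        _ = _ := by rw [← caq]; group
    have e4 : w * g = (a * p) * (b * q) := by
      rw [hgpq, hwab]
      calc a * b * (p * q) = a * (b * p) * q := by group
        _ = _ := by rw [← cpb]; group
    rw [e3, e4] at hgw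
    constructor
    · intro h1
      rw [h1] at hgw
      exact (mul_left_cancel hgw).symm
    · intro h1
      rw [h1] at hgw
      exact (mul_right_cancel hgw).symm
  have hap : a * p ≠ p * a := by
    intro h1
    have h2 := hiff.1 h1
    have h3 := hK.of_comm h ha e1 hp h1
    have h4 := hM.of_comm h hb e2 hq h2
    have f1 : p = a ∨ p = c * a := by
      rcases h3 with h5 | h5 | h5 | h5
      · rw [h5, one_mul] at hpp; exact absurd hpp.symm hc1
      · rw [h5, hcc] at hpp; exact absurd hpp.symm hc1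
      · exact Or.inl h5
      · exact Or.inr h5
    have f2 : q = b ∨ q = c * b := by
      rcases h4 with h5 | h5 | h5 | h5
      · rw [h5, one_mul] at hqq; exact absurd hqq.symm hc1
      · rw [h5, hcc] at hqq; exact absurd hqq.symm hc1
      · exact Or.inl h5
      · exact Or.inr h5
    rcases f1 with f1 | f1 <;> rcases f2 with f2 | f2
    · exact hne (by rw [hgpq, hwab, f1, f2])
    · exact hne' (by rw [hgpq, hwab, f1, f2, ← mul_assoc, ← cca, mul_assoc])
    · exact hne' (by rw [hgpq, hwab, f1, f2, mul_assoc])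
    · refine hne ?_
      rw [hgpq, hwab, f1, f2]
      calc c * a * (c * b) = c * (a * c) * b := by group
        _ = (c * c) * a * b := by rw [← cca]; group
        _ = _ := by rw [hcc, one_mul]
  have hbq : b * q ≠ q * b := fun h1 => hap (hiff.2 h1)
  -- `l ∈ L`
  obtain ⟨l, hl, hll⟩ := (hti.symm h).exists_as h hL
  obtain ⟨-, -, r1⟩ := (hti.symm h).rot h hL hK hl ya2
  obtain ⟨-, -, r2⟩ := (hti.symm h).rot h hL hM hl yb2
  have s1 := r1 p hp hpp hap
  have s2 := r2 q hq hqq hbq
  have key : l * g * l⁻¹ * g⁻¹ = w ∨ l * g * l⁻¹ * g⁻¹ = c * w := by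
    have e5 : l * g * l⁻¹ = (l * p * l⁻¹) * (l * q * l⁻¹) := by rw [hgpq]; group
    have e6 : (a * p) * (b * q) = w * g := by
      rw [hgpq, hwab]
      calc (a * p) * (b * q) = a * (p * b) * q := by group
        _ = _ := by rw [cpb]; group
    have e7 : (a * p) * (c * (b * q)) = c * (w * g) := by
      have h1 : (a * p) * c = c * (a * p) := by rw [mul_assoc, ← ccp, ← mul_assoc, ← cca, mul_assoc]
      rw [← mul_assoc, h1, mul_assoc, e6]
    have e8 : (c * (a * p)) * (b * q) = c * (w * g) := by rw [mul_assoc, e6]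
    have e9 : (c * (a * p)) * (c * (b * q)) = w * g := by rw [mul_assoc, e7, ← mul_assoc, hcc, one_mul]
    rcases s1 with s1 | s1 <;> rcases s2 with s2 | s2
    · left; rw [e5, s1, s2, e6, mul_inv_cancel_right]
    · right; rw [e5, s1, s2, e7, ← mul_assoc, mul_inv_cancel_right]
    · right; rw [e5, s1, s2, e8, ← mul_assoc, mul_inv_cancel_right]
    · left; rw [e5, s1, s2, e9, mul_inv_cancel_right]
  have hmem : l * g * l⁻¹ * g⁻¹ ∈ L := by
    have h1 : l * g * l⁻¹ * g⁻¹ = l * (g * l⁻¹ * g⁻¹) := by group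
    rw [h1]
    refine mul_mem hl.1 ?_
    have := conj_mem_cj (g := g) (inv_mem hl.1)
    rwa [hgL] at this
  have hww : w * w = 1 := by
    rw [hwab]
    calc a * b * (a * b) = a * (b * a) * b := by group
      _ = (a * a) * (b * b) := by rw [cab]; group
      _ = 1 := by rw [e1, e2, hcc]
  have hcw : c * w = w * c := by rw [hwab, ← mul_assoc, cca, mul_assoc, ccb, ← mul_assoc]
  have nw1 : w ≠ 1 := by
    rintro rfl
    rw [mul_one] at hyw
    exact (hti.symm h).not_mem_CX h hyw
  have nwc : c * w ≠ 1 := by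
    intro h1
    have h2 : w = c := by
      rw [← one_mul w, ← hcc, mul_assoc, h1, mul_one]
    rw [h2] at hyw
    refine (hti.symm h).not_mem_CX h ?_
    have h3 := mul_mem hyw (inv_mem (z_mem_CX h (z := c)))
    rwa [mul_inv_cancel_right] at h3
  rcases key with h1 | h1
  · rw [h1] at hmem
    rcases hL.sq_cases h hmem with h2 | h2 | h2
    · exact absurd h2 nw1
    · rw [← h2]; exact hw
    · rw [hww] at h2; exact absurd h2.symm (hti.inT.z1 h)
  · rw [h1] at hmem
    rcases hL.sq_cases h hmem with h2 | h2 | h2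
    · exact absurd h2 nwc
    · rw [← h2]; exact mul_mem (z_mem_RZ hti.inZ h) hw
    · have h3 : c * w * (c * w) = 1 := by
        calc c * w * (c * w) = c * (w * c) * w := by group
          _ = (c * c) * (w * w) := by rw [← hcw]; group
          _ = 1 := by rw [hcc, hww, one_mul]
      rw [h3] at h2; exact absurd h2.symm (hti.inT.z1 h)

end Fin

end Cfsg.Agent.Cit.Nil.RTwoM
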