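import Cfsg.Agent.Cit.Nil.RTwoM.UPsi
import Cfsg.Agent.Cit.Nil.RTwoM.U.Swp

/-!
# S1309, (6b), (C3), `r = 2`, any `m`, `LAMBDA0`: ROTATION of section 5.2 (helper762)

* **`exists_rot_pair`** : `g`, `w` involutions of `R_c`, `c ∈ C_S`, not commuting: some `δ ∈ C(T_S)` such that `g^δ`
  commutes with `w`, `g^δ ∉ w⟨c⟩`.
-/

set_option autoImplicit false
set_option linter.style.haveILetI false
set_option linter.unusedSectionVars false

namespace Cfsg.Agent.Cit.Nil.RTwoM

open Subgroup Cfsg Cfsg.Agent.Cit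

open RG (WR CP Ov InO Tr)
open RI (CS)

variable {G : Type*} [Group G] {Om : Set (Subgroup G)} {K L M : Subgroup G}
  {a b c d g g' k l m n p q r s t u v w x y z : G}

section Fin

variable [Finite G]

/-- elements of order 4 of a member which commute : same axis -/
theorem Mem.axis_of_comm (hK : Mem Om c K) (h : WM Om) (ha : a ∈ K) (haa : a * a = c) (hb : b ∈ K) (hbb : b * b = c)
    (hab : a * b = b * a) : b = a ∨ b = c * a := by
  have hcc := hK.inZ.z2 h
  have hc1 := hK.inZ.z1 h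
  rcases hK.of_comm h ha haa hb hab with h1 | h1 | h1 | h1
  · rw [h1, one_mul] at hbb; exact absurd hbb.symm hc1
  · rw [h1, hcc] at hbb; exact absurd hbb.symm hc1
  · exact Or.inl h1
  · exact Or.inr h1

/-- commuting depends only on the axis -/
theorem Mem.comm_axis (hK : Mem Om c K) (h : WM Om) (hb : b ∈ K) (hq : q ∈ K) (h1 : b = a ∨ b = c * a) :
    b * q = q * b ↔ a * q = q * a := by
  rcases h1 with rfl | rfl
  · exact Iff.rfl
  · have hcq : c * q = q * c := (hK.comm_z h hq).symm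
    constructor
    · intro h2
      have h3 : c * (a * q) = c * (q * a) := by
        calc c * (a * q) = c * a * q := by group
          _ = q * (c * a) := h2
          _ = (q * c) * a := by group
          _ = c * (q * a) := by rw [← hcq]; group
      exact mul_left_cancel h3
    · intro h2
      calc c * a * q = c * (a * q) := by group
        _ = (c * q) * a := by rw [h2]; group
        _ = _ := by rw [hcq]; group

/-- a rotation moves `y` to an element not commuting with `y` -/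
theorem Rot.nc_y (hr : Rot c K d) (h : WM Om) (hK : Mem Om c K) (hy : y ∈ K) (hyy : y * y = c) :
    y * (d * y * d⁻¹) ≠ (d * y * d⁻¹) * y := by
  intro h1
  have hm : d * y * d⁻¹ ∈ K := by
    have := conj_mem_cj (g := d) hy
    rwa [hr.1] at this
  have hdc : d * c = c * d := hK.of_cj h hr.1
  have h2 : (d * y * d⁻¹) * (d * y * d⁻¹) = c := by
    calc (d * y * d⁻¹) * (d * y * d⁻¹) = d * (y * y) * d⁻¹ := by group
      _ = c := by rw [hyy, hdc, mul_inv_cancel_right]
  rcases hK.axis_of_comm h hy hyy hm h2 h1 with h3 | h3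
  · exact (hr.2 y hy hyy).1 h3
  · exact (hr.2 y hy hyy).2 h3

/-- ROTATION, `p`, `a` on the same axis of `K`, `q`, `b` on different axes of `M` -/
theorem rot_pair (h : WM Om) (hK : Mem Om c K) (hM : Mem Om c M) (hr : Rot c K d) (hdM : cj d M = M)
    (hp : p ∈ K) (ha : a ∈ K) (hpp : p * p = c) (haa : a * a = c) (hpa : p * a = a * p) (hq : q ∈ M) (hb : b ∈ M)
    (hqq : q * q = c) (hbb : b * b = c) (hqb : q * b ≠ b * q) :
    ∃ δ, (δ = d ∨ δ = d⁻¹ ∨ δ = d * d) ∧ (δ * p * δ⁻¹) * a ≠ a * (δ * p * δ⁻¹) ∧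
      (δ * q * δ⁻¹) * b ≠ b * (δ * q * δ⁻¹) := by
  have hcc := hK.inZ.z2 h
  have hdc : d * c = c * d := hK.of_cj h hr.1
  have hax := hK.axis_of_comm h hp hpp ha haa hpa
  have cjK : ∀ {y : G}, y ∈ K → d * y * d⁻¹ ∈ K := fun {y} hy => by
    have := conj_mem_cj (g := d) hy
    rwa [hr.1] at this
  have cjM : ∀ {y : G}, y ∈ M → d * y * d⁻¹ ∈ M := fun {y} hy => by
    have := conj_mem_cj (g := d) hy
    rwa [hdM] at this
  have cjK' : ∀ {y : G}, y ∈ K → d⁻¹ * y * d ∈ K := fun {y} hy => by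
    rw [← mem_cj, hr.1]; exact hy
  have cjM' : ∀ {y : G}, y ∈ M → d⁻¹ * y * d ∈ M := fun {y} hy => by
    rw [← mem_cj, hdM]; exact hy
  have sqd : ∀ {y : G}, y * y = c → (d * y * d⁻¹) * (d * y * d⁻¹) = c := fun {y} hy => by
    calc (d * y * d⁻¹) * (d * y * d⁻¹) = d * (y * y) * d⁻¹ := by group
      _ = c := by rw [hy, hdc, mul_inv_cancel_right]
  have sqd' : ∀ {y : G}, y * y = c → (d⁻¹ * y * d) * (d⁻¹ * y * d) = c := fun {y} hy => by
    calc (d⁻¹ * y * d) * (d⁻¹ * y * d) = d⁻¹ * (y * y) * d := by group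
      _ = c := by rw [hy, mul_assoc, ← hdc, inv_mul_cancel_left]
  -- not commuting with `p` is enough
  have red : ∀ {p' : G}, p' ∈ K → p * p' ≠ p' * p → p' * a ≠ a * p' := by
    intro p' hp' h1 h2
    exact h1 ((hK.comm_axis h ha hp' hax).1 h2.symm)
  by_cases h1 : (d * q * d⁻¹) * b = b * (d * q * d⁻¹)
  swap
  · exact ⟨d, Or.inl rfl, red (cjK hp) (hr.nc_y h hK hp hpp), h1⟩
  by_cases h2 : (d⁻¹ * q * d) * b = b * (d⁻¹ * q * d)
  swap
  · refine ⟨d⁻¹, Or.inr (Or.inl rfl), ?_, ?_⟩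
    · rw [inv_inv]
      refine red (cjK' hp) fun h3 => ?_
      have h4 := hr.nc_y h hK (cjK' hp) (sqd' hpp)
      rw [show d * (d⁻¹ * p * d) * d⁻¹ = p by group] at h4
      exact h4 h3.symm
    · rw [inv_inv]; exact h2
  · refine ⟨d * d, Or.inr (Or.inr rfl), ?_, ?_⟩
    · have e1 : d * d * p * (d * d)⁻¹ = d * (d * p * d⁻¹) * d⁻¹ := by group
      rw [e1]
      refine red (cjK (cjK hp)) fun h3 => ?_
      -- the third axis would be fixed
      have h4 := hK.axis_of_comm h hp hpp (cjK (cjK hp)) (sqd (sqd hpp)) h3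
      have h5 := hr.nc_y h hK hp hpp
      obtain ⟨p1, hp1⟩ : ∃ p1, p1 = d * p * d⁻¹ := ⟨_, rfl⟩
      rw [← hp1] at h4 h5
      have m1 : p1 ∈ K := by rw [hp1]; exact cjK hp
      have q1 : p1 * p1 = c := by rw [hp1]; exact sqd hpp
      have h6 : p1 * p = c * (p * p1) := by
        have h7 := hK.comm_or h hp m1
        rcases h7 with h7 | h7
        · exfalso
          rw [mul_inv_eq_iff_eq_mul] at h7
          exact h5 h7.symm
        · rw [mul_inv_eq_iff_eq_mul] at h7
          rw [h7, mul_assoc]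
      have h8 : (p * p1) * (p * p1) = c := by
        calc (p * p1) * (p * p1) = p * (p1 * p) * p1 := by group
          _ = p * (c * (p * p1)) * p1 := by rw [h6]
          _ = (p * c) * p * (p1 * p1) := by group
          _ = c * (p * p) * (p1 * p1) := by rw [hK.comm_z h hp]; group
          _ = c := by rw [hpp, q1, hcc, one_mul]
      have h9 : d * (p * p1) * d⁻¹ = p1 * (d * p1 * d⁻¹) := by rw [hp1]; group
      refine hr.nc_y h hK (mul_mem hp m1) h8 ?_
      rw [h9]
      have h10 : p1 * (d * p1 * d⁻¹) = p * p1 ∨ p1 * (d * p1 * d⁻¹) = c * (p * p1) := by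
        rcases h4 with h4 | h4
        · right; rw [h4, h6]
        · left
          rw [h4, ← mul_assoc, hK.comm_z h m1, mul_assoc, h6, ← mul_assoc, hcc, one_mul]
      rcases h10 with h10 | h10
      · rw [h10]
      · rw [h10]
        have h11 : (p * p1) * c = c * (p * p1) := hK.comm_z h (mul_mem hp m1)
        calc (p * p1) * (c * (p * p1)) = ((p * p1) * c) * (p * p1) := by rw [mul_assoc (p * p1) c (p * p1)]
          _ = _ := by rw [h11]
    · have e1 : d * d * q * (d * d)⁻¹ = d * (d * q * d⁻¹) * d⁻¹ := by group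
      rw [e1]
      have h3 := hM.axis_of_comm h hb hbb (cjM hq) (sqd hqq) h1.symm
      have h4 := hM.axis_of_comm h hb hbb (cjM' hq) (sqd' hqq) h2.symm
      have h5 : q = d * b * d⁻¹ ∨ q = c * (d * b * d⁻¹) := by
        rcases h4 with h4 | h4
        · left; rw [← h4]; group
        · right
          have : q = d * (d⁻¹ * q * d) * d⁻¹ := by group
          rw [this, h4]
          calc d * (c * b) * d⁻¹ = (d * c) * b * d⁻¹ := by group
            _ = _ := by rw [hdc]; group
      have h6 : d * (d * q * d⁻¹) * d⁻¹ = q ∨ d * (d * q * d⁻¹) * d⁻¹ = c * q := by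
        have h7 : d * (d * q * d⁻¹) * d⁻¹ = d * b * d⁻¹ ∨ d * (d * q * d⁻¹) * d⁻¹ = c * (d * b * d⁻¹) := by
          rcases h3 with h3 | h3
          · left; rw [h3]
          · right; rw [h3]
            calc d * (c * b) * d⁻¹ = (d * c) * b * d⁻¹ := by group
              _ = _ := by rw [hdc]; group
        rcases h5 with h5 | h5
        · rcases h7 with h7 | h7
          · left; rw [h7, ← h5]
          · right; rw [h7, ← h5]
        · rcases h7 with h7 | h7
          · right; rw [h7]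
            conv_rhs => rw [h5]
            rw [← mul_assoc, hcc, one_mul]
          · left; rw [h7, ← h5]
      intro h7
      rw [hM.comm_axis h (cjM (cjM hq)) hb h6] at h7
      exact hqb h7

/-- **ROTATION** -/
theorem exists_rot_pair (h : WM Om) {S : Sylow 2 G} (rot : RotS Om (S : Subgroup G)) (hc : c ∈ CS Om (S : Subgroup G))
    (hg : g ∈ RZ Om c) (hw : w ∈ RZ Om c) (hgg : g * g = 1) (hww : w * w = 1) (hnc : g * w ≠ w * g) :
    ∃ δ, (∀ t ∈ TT Om (S : Subgroup G), δ * t = t * δ) ∧ (δ * g * δ⁻¹) * w = w * (δ * g * δ⁻¹) ∧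
      δ * g * δ⁻¹ ≠ w ∧ δ * g * δ⁻¹ ≠ c * w := by
  obtain ⟨K, hK⟩ := CS.inZ hc
  obtain ⟨M, hM, hKM, -⟩ := hK.other h
  have hcc := hK.inZ.z2 h
  have hc1 := hK.inZ.z1 h
  have ncent : ∀ {g w : G}, w ∈ RZ Om c → g * w ≠ w * g → g ≠ 1 ∧ g ≠ c := by
    intro g w hw hnc
    refine ⟨?_, ?_⟩
    · rintro rfl; exact hnc (by rw [one_mul, mul_one])
    · rintro rfl; exact hnc (RZ_le_centralizer h hw).symm
  obtain ⟨n1, n2⟩ := ncent hw hnc
  obtain ⟨n3, n4⟩ := ncent hg (Ne.symm hnc)
  obtain ⟨p, hp, q, hq, hpp, hqq, hgpq⟩ := RZ_parts h hK hM hKM hg hgg n1 n2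
  obtain ⟨a, ha, b, hb, haa, hbb, hwab⟩ := RZ_parts h hK hM hKM hw hww n3 n4
  -- the product form of the commutator
  have gen : ∀ {p a q b : G}, p ∈ K → a ∈ K → q ∈ M → b ∈ M → (p * q) * (a * b) = (p * a) * (q * b) := by
    intro p a q b hp ha hq hb
    have h1 : q * a = a * q := (hK.comm hM h hKM ha hq).symm
    calc (p * q) * (a * b) = p * (q * a) * b := by group
      _ = _ := by rw [h1]; group
  have anti : ∀ {K : Subgroup G}, Mem Om c K → ∀ {p a : G}, p ∈ K → a ∈ K → p * a ≠ a * p → p * a = c * (a * p) := by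
    intro K hK p a hp ha hpa
    rcases hK.comm_or h ha hp with h7 | h7
    · rw [mul_inv_eq_iff_eq_mul] at h7; exact absurd h7 hpa
    · rw [mul_inv_eq_iff_eq_mul] at h7; rw [h7, mul_assoc]
  -- the end
  have fin : ∀ {p' q' : G}, p' ∈ K → q' ∈ M → p' * a ≠ a * p' → q' * b ≠ b * q' →
      (p' * q') * w = w * (p' * q') ∧ p' * q' ≠ w ∧ p' * q' ≠ c * w := by
    intro p' q' hp' hq' h1 h2
    refine ⟨?_, ?_, ?_⟩
    · rw [hwab, gen hp' ha hq' hb, gen ha hp' hb hq', anti hK hp' ha h1, anti hM hq' hb h2]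
      have h3 : (a * p') * c = c * (a * p') := hK.comm_z h (mul_mem ha hp')
      calc c * (a * p') * (c * (b * q')) = c * ((a * p') * c) * (b * q') := by group
        _ = (c * c) * (a * p') * (b * q') := by rw [h3]; group
        _ = _ := by rw [hcc, one_mul]
    · intro h3
      rw [hwab] at h3
      have h4 : a⁻¹ * p' = b * q'⁻¹ := by
        rw [eq_mul_inv_iff_mul_eq, mul_assoc, h3, inv_mul_cancel_left]
      have h5 : a⁻¹ * p' ∈ M := by rw [h4]; exact mul_mem hb (inv_mem hq')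
      rcases hK.inf hM h hKM (mul_mem (inv_mem ha) hp') h5 with h6 | h6
      · have h7 : p' = a := by rw [← inv_mul_eq_one.1 h6]
        exact h1 (by rw [h7])
      · have h7 : p' = a * c := by rw [← h6, mul_inv_cancel_left]
        exact h1 (by rw [h7, mul_assoc, ← hK.comm_z h ha, ← mul_assoc])
    · intro h3
      rw [hwab] at h3
      have h4 : (c * a)⁻¹ * p' = b * q'⁻¹ := by
        rw [eq_mul_inv_iff_mul_eq, mul_assoc, h3, ← mul_assoc c a b, inv_mul_cancel_left]
      have hca : c * a ∈ K := mul_mem (hK.zmem h) ha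
      have h5 : (c * a)⁻¹ * p' ∈ M := by rw [h4]; exact mul_mem hb (inv_mem hq')
      have hcaa : (c * a) * a = a * (c * a) := by
        rw [← mul_assoc a c a, hK.comm_z h ha]
      rcases hK.inf hM h hKM (mul_mem (inv_mem hca) hp') h5 with h6 | h6
      · have h7 : p' = c * a := by rw [← inv_mul_eq_one.1 h6]
        exact h1 (by rw [h7, hcaa])
      · have h7 : p' = (c * a) * c := (inv_mul_eq_iff_eq_mul.1 h6)
        have h8 : (c * a) * c = a := by rw [mul_assoc, hK.comm_z h ha, ← mul_assoc, hcc, one_mul]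
        rw [h8] at h7
        exact h1 (by rw [h7])
  have comT : ∀ {d δ : G}, (∀ t ∈ TT Om (S : Subgroup G), d * t = t * d) → (δ = d ∨ δ = d⁻¹ ∨ δ = d * d) →
      ∀ t ∈ TT Om (S : Subgroup G), δ * t = t * δ := by
    intro d δ hd hδ t ht
    have h1 := hd t ht
    rcases hδ with rfl | rfl | rfl
    · exact h1
    · rw [inv_mul_eq_iff_eq_mul, ← mul_assoc, h1, mul_inv_cancel_right]
    · rw [mul_assoc, h1, ← mul_assoc, h1, mul_assoc]
  have memK : ∀ {K : Subgroup G} {d δ y : G}, cj d K = K → (δ = d ∨ δ = d⁻¹ ∨ δ = d * d) → y ∈ K →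
      δ * y * δ⁻¹ ∈ K := by
    intro K d δ y hd hδ hy
    have h1 : cj δ K = K := by
      rcases hδ with rfl | rfl | rfl
      · exact hd
      · conv_lhs => rw [← hd]
        rw [← cj_mul, inv_mul_cancel, cj_one]
      · rw [cj_mul, hd, hd]
    have := conj_mem_cj (g := δ) hy
    rwa [h1] at this
  by_cases hpa : p * a = a * p
  · have hqb : q * b ≠ b * q := by
      intro hqb
      apply hnc
      rw [hgpq, hwab, gen hp ha hq hb, gen ha hp hb hq, hpa, hqb]
    obtain ⟨d, hd, hdT⟩ := rot c K hK (CS.le hc h hK)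
    have hdc : d * c = c * d := hdT c (CS.mem_TT hc)
    have hdM : cj d M = M := by
      rcases cj_cases h hK hM hKM hdc with h1 | h1
      · exact h1.2
      · exact absurd (hd.1.symm.trans h1.1) hKM
    obtain ⟨δ, hδ, h1, h2⟩ := rot_pair h hK hM hd hdM hp ha hpp haa hpa hq hb hqq hbb hqb
    refine ⟨δ, comT hdT hδ, ?_⟩
    have h3 : δ * g * δ⁻¹ = (δ * p * δ⁻¹) * (δ * q * δ⁻¹) := by rw [hgpq]; group
    rw [h3]
    exact fin (memK hd.1 hδ hp) (memK hdM hδ hq) h1 h2
  · have hqb : q * b = b * q := by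
      by_contra hqb
      apply hnc
      rw [hgpq, hwab, gen hp ha hq hb, gen ha hp hb hq, anti hK hp ha hpa, anti hM hq hb hqb]
      have h3 : (a * p) * c = c * (a * p) := hK.comm_z h (mul_mem ha hp)
      calc c * (a * p) * (c * (b * q)) = c * ((a * p) * c) * (b * q) := by group
        _ = (c * c) * (a * p) * (b * q) := by rw [h3]; group
        _ = _ := by rw [hcc, one_mul]
    obtain ⟨d, hd, hdT⟩ := rot c M hM (CS.le hc h hM)
    have hdc : d * c = c * d := hdT c (CS.mem_TT hc)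
    have hdK : cj d K = K := by
      rcases cj_cases h hK hM hKM hdc with h1 | h1
      · exact h1.1
      · exact absurd (h1.2.symm.trans hd.1) hKM
    obtain ⟨δ, hδ, h1, h2⟩ := rot_pair h hM hK hd hdK hq hb hqq hbb hqb hp ha hpp haa hpa
    refine ⟨δ, comT hdT hδ, ?_⟩
    have h3 : δ * g * δ⁻¹ = (δ * p * δ⁻¹) * (δ * q * δ⁻¹) := by rw [hgpq]; group
    rw [h3]
    exact fin (memK hdK hδ hp) (memK hd.1 hδ hq) h2 h1

end Fin

end Cfsg.Agent.Cit.Nil.RTwoM
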