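import Cfsg.Agent.Cit.Nil.RTwoM.UPsi
import Cfsg.Agent.Cit.Nil.RTwoM.NilZ
import Cfsg.Agent.Cit.Nil.RTwoM.BlkOne
import Cfsg.Agent.Cit.Nil.RTwoM.EndT
import Cfsg.Agent.Cit.Nil.RTwoM.U.RegDef

/-!
# S1309, (6b), (C3), `r = 2`, any `m`, `LAMBDA0`: CENT in world SW (section 5.1 of helper762's text, simplified)

* `CW Om D x` : `D` a commuting subset of `Z` normalised by the `R_b`, with (111), `x ∈ Z` normalises `D`, and
  over each `w ∈ D` fixed by `x` there is a self-centralising `B ≤ R_w` centralised by `x` and `D`;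
* `CW.comm_of_mem` : `x` centralises `⟨D⟩ ⊓ R_w`, `w` fixed; `CW.swp` : `y` moved ⟹ `(y, y^x)` is a swap pair;
* **`CW.fix`** : `y ∈ D`, `r ∈ ⟨D⟩ ⊓ R_y` not in `{1, y}`, `[x, r] = 1` ⟹ `[x, y] = 1`;
* `CW.fix_swp`, `CW.fix_ti`, `CW.all` : `w` fixed, `y` not a C-partner of `w` ⟹ `y` fixed;
* **`cent_sw`** : `RegSW Om`, rotations ⟹ `CENT Om`.
-/

set_option autoImplicit false
set_option linter.style.haveILetI false
set_option linter.unusedSectionVars false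

namespace Cfsg.Agent.Cit.Nil.RTwoM

open Subgroup Cfsg Cfsg.Agent.Cit

open RG (WR CP Ov InO Tr)
open RI (CS)
open Blk (sm sg Data sm_zero sm_one)

variable {G : Type*} [Group G] {Om : Set (Subgroup G)} {K L M : Subgroup G} {D : Set G}
  {a b d g g' k l m n r s t u v w x y z : G}

/-- over `w` there is a self-centralising `B ≤ R_w` centralised by `x` and `D` -/
def RegAt (Om : Set (Subgroup G)) (D : Set G) (x w : G) : Prop :=
  ∃ B : Subgroup G, B ≤ RZ Om w ∧ (∀ r ∈ RZ Om w, (∀ b ∈ B, r * b = b * r) → r ∈ B) ∧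
    (∀ b ∈ B, x * b = b * x) ∧ ∀ y ∈ D, ∀ b ∈ B, y * b = b * y

/-- the situation of section 5.1 -/
structure CW (Om : Set (Subgroup G)) (D : Set G) (x : G) : Prop where
  h : WM Om
  l0 : L0 Om
  nil : NilS Om D
  pat : Pat1 Om D
  inZ : InZ Om x
  nor : ∀ y ∈ D, x * y * x⁻¹ ∈ D
  reg : ∀ w ∈ D, x * w = w * x → RegAt Om D x w

section Fin

variable [Finite G]

theorem cx_of_as (h : WM Om) (hK : Mem Om z K) (hL : Mem Om z L) (hne : K ≠ L) (h1 : As K g a) (h2 : As K g' a)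
    (h3 : As L g b) (h4 : As L g' b) : g * g'⁻¹ ∈ CX Om z := by
  rw [mem_CX]
  intro M hM
  rcases hK.cases hL h hne hM with rfl | rfl
  · have h5 := h1.mul h2.inv
    rw [mul_inv_cancel] at h5
    exact As.one_iff.1 h5
  · have h5 := h3.mul h4.inv
    rw [mul_inv_cancel] at h5
    exact As.one_iff.1 h5

/-- `v` a swap at `m`, `x` centralises `C_{R_m}(v)` : `[v, x] ∈ C(R_m)` -/
theorem swp_comm_cx (h : WM Om) (hs : Swp Om m v) (hvv : v * v = 1) (hxm : x * m = m * x)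
    (hc : ∀ K, Mem Om m K → ∀ k ∈ K, x * qq v k = qq v k * x) (hm : InZ Om m) : v * x * v⁻¹ * x⁻¹ ∈ CX Om m := by
  obtain ⟨K, hK⟩ := hm
  have hL := hs.mem h hK
  have hne := hs.ne hK
  have hv' : v⁻¹ = v := inv_eq_of_mul_eq_one_right hvv
  have back : cj v (cj v K) = K := by rw [← cj_mul, hvv, cj_one]
  have conj2 : ∀ a : G, v * (v * a * v⁻¹) * v⁻¹ = a := fun a => by
    rw [hv', show v * (v * a * v) * v = (v * v) * a * (v * v) by group, hvv, one_mul, mul_one]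
  rcases hs.cent h hvv hK hxm (hc K hK) with ⟨a, ha, h1, h2⟩ | ⟨-, a, ha, h1, h2⟩
  · have e1 := h1.conj v
    have e2 := h2.conj v
    rw [back, conj2] at e2
    exact cx_of_as h hK hL hne e2 h1 e1 h2
  · have e1 := h1.conj v
    have e2 := h2.conj v
    rw [back, conj2] at e2
    have e3 := cx_of_as h hK hL hne e2 h1 e1 h2
    have e4 : v * x * v⁻¹ * x⁻¹ = v * (x * v) * v⁻¹ * (x * v)⁻¹ := by group
    rw [e4]; exact e3

/-- a nontrivial action of type I : an element of `R_w` acting as `y` -/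
theorem TI.exists_rz (hti : TI Om y w) (h : WM Om) : ∃ r ∈ RZ Om w, y * r ∈ CX Om w := by
  rcases hti.dich h with h1 | ⟨q, -, hq, -, -, h2⟩
  · exact ⟨y, h1, by rw [hti.inZ.z2 h]; exact one_mem _⟩
  · exact ⟨q, hq, h2⟩

namespace CW

variable (c : CW Om D x)

include c

theorem xx : x * x = 1 := c.inZ.z2 c.h

theorem comm_cl (hn : n ∈ closure D) (hb : ∀ y ∈ D, y * b = b * y) : n * b = b * n := by
  have h1 : closure D ≤ centralizer ({b} : Set G) := (closure_le _).2 fun y hy =>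
    mem_centralizer_singleton_iff.2 (hb y hy)
  exact mem_centralizer_singleton_iff.1 (h1 hn)

/-- `x` centralises `⟨D⟩ ⊓ R_w` if `w` is fixed -/
theorem comm_of_mem (hw : w ∈ D) (hxw : x * w = w * x) (hr : r ∈ RZ Om w) (hrc : r ∈ closure D) : x * r = r * x := by
  obtain ⟨B, -, hB, hx, hD⟩ := c.reg w hw hxw
  exact hx r (hB r hr fun b hb => c.comm_cl hrc fun y hy => hD y hy b hb)

/-- `[k, v] ∈ ⟨D⟩` -/
theorem qq_cl (hw : w ∈ D) (hv : v ∈ D) (hK : Mem Om w K) (hk : k ∈ K) : qq v k ∈ closure D := by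
  have h1 := c.nil.nor w hw k (hK.le_RZ hk) v hv
  have hwv : w * v = v * w := c.nil.comm w hw v hv
  have hkw := hK.comm_z c.h hk
  have hcl := c.nil.cl_sq c.h (subset_closure hv)
  rcases hK.sq_cases c.h hk with h2 | h2 | h2
  · rw [h2, qq_one]; exact one_mem _
  · rw [h2, qq]
    have h3 : w * (v * w * v⁻¹) = 1 := by
      rw [← hwv, mul_inv_cancel_right, (c.nil.inZ w hw).z2 c.h]
    rw [h3]; exact one_mem _
  · have h3 : k = w * k⁻¹ := by
      rw [← h2]; group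
    have h4 : qq v k = w * (k * v * k⁻¹) * v⁻¹ := by
      calc qq v k = k * (v * (w * k⁻¹) * v⁻¹) := by rw [qq, ← h3]
        _ = k * (v * w) * k⁻¹ * v⁻¹ := by group
        _ = (k * w) * v * k⁻¹ * v⁻¹ := by rw [← hwv]; group
        _ = _ := by rw [hkw]; group
    rw [h4]
    exact mul_mem (mul_mem (subset_closure hw) (subset_closure h1)) (inv_mem (subset_closure hv))

theorem comm_qq (hw : w ∈ D) (hxw : x * w = w * x) (hv : v ∈ D) (hs : Swp Om w v) (hK : Mem Om w K) (hk : k ∈ K) :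
    x * qq v k = qq v k * x :=
  c.comm_of_mem hw hxw (qq_mem hs c.h hK hk) (c.qq_cl hw hv hK hk)

/-- (KEY2) against REG -/
theorem no_TI (hw : w ∈ D) (hxw : x * w = w * x) (hy : y ∈ D) (hti : TI Om y w) : x * y * x⁻¹ ≠ y * w := by
  intro h1
  obtain ⟨r, hr, hyr⟩ := hti.exists_rz c.h
  obtain ⟨B, hBR, hB, hx, hD⟩ := c.reg w hw hxw
  have hrB : r ∈ B := by
    refine hB r hr fun b hb => ?_
    have h2 : y * b = b * y := hD y hy b hb
    have h3 : (y * r) * b = b * (y * r) := CX_comm (hBR hb) hyr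
    have h4 : y * (r * b) = y * (b * r) := by
      calc y * (r * b) = (y * r) * b := by group
        _ = (b * y) * r := by rw [h3]; group
        _ = _ := by rw [← h2]; group
    exact mul_left_cancel h4
  have h2 := hti.key2 c.h h1 hxw hr hyr
  rw [hx r hrB, mul_inv_cancel_right] at h2
  exact hti.inT.z1 c.h (right_eq_mul.1 h2)

/-- a moved element is a swap partner of its conjugate -/
theorem swp (hy : y ∈ D) (hne : x * y ≠ y * x) : Swp Om y (x * y * x⁻¹) := by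
  have hy' := c.nor y hy
  have iy := c.nil.inZ y hy
  have iy' := c.nil.inZ _ hy'
  have hx' := c.inZ.inv c.h
  have hxx := c.xx
  have hn : y ≠ x * y * x⁻¹ := fun h1 => hne (by rw [eq_mul_inv_iff_mul_eq] at h1; exact h1.symm)
  have hcm := c.nil.comm y hy _ hy'
  rcases tri c.h iy iy' hn hcm with h1 | h1 | ⟨h1, -⟩
  · exact absurd h1 (c.l0 y x iy c.inZ)
  · exfalso
    obtain ⟨L, hL⟩ := iy'
    obtain ⟨v, hv, -, -, hvy⟩ := h1.exists_mv c.h hL
    have hmD : y * (x * y * x⁻¹) ∈ D := by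
      rw [← hvy]
      exact c.nil.nor _ hy' v (hL.le_RZ hv) y hy
    have hti : TI Om y (y * (x * y * x⁻¹)) := h1.mul_right c.h
    refine c.no_TI hmD ?_ hy hti ?_
    · calc x * (y * (x * y * x⁻¹)) = (x * y * x⁻¹) * ((x * x) * y * x⁻¹) := by group
        _ = (x * y * x⁻¹) * (y * x⁻¹) := by rw [hxx, one_mul]
        _ = ((x * y * x⁻¹) * y) * x := by simp only [hx', mul_assoc]
        _ = _ := by rw [← hcm]
    · have hyy := iy.z2 c.h
      rw [← mul_assoc, hyy, one_mul]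
  · rcases h1.cases with h2 | h2
    · exact h2
    · exact absurd h2 (c.nil.not_ff c.h hy (subset_closure hy'))

/-- **`x` centralises no element of `⟨D⟩ ⊓ R_y` except `1`, if `y ∈ D` is moved** -/
theorem fix (hy : y ∈ D) (hr : r ∈ RZ Om y) (hrc : r ∈ closure D) (hr1 : r ≠ 1) (hry : r ≠ y)
    (hxr : x * r = r * x) : x * y = y * x := by
  by_contra hne
  have h := c.h
  have nil := c.nil
  have hs := c.swp hy hne
  have hxx := c.xx
  have hx' := c.inZ.inv h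
  have hy' := c.nor y hy
  obtain ⟨N, _, _, ι, E⟩ := nil.exists_emb
  obtain ⟨β, F⟩ := nil.exists_form h E
  obtain ⟨B, hB⟩ : ∃ B : N → AddSubgroup N, ∀ b x, x ∈ B b ↔ ι x ∈ RZ Om (ι b) := by
    refine ⟨fun b =>
      { carrier := {x | ι x ∈ RZ Om (ι b)}
        add_mem' := ?_
        zero_mem' := ?_
        neg_mem' := ?_ }, fun b x => Iff.rfl⟩
    · intro x y hx hy
      show ι (x + y) ∈ RZ Om (ι b)
      rw [E.add]; exact mul_mem hx hy
    · show ι 0 ∈ RZ Om (ι b)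
      rw [E.zero]; exact one_mem _
    · intro x hx
      show ι (-x) ∈ RZ Om (ι b)
      rw [E.neg]; exact inv_mem hx
  obtain ⟨-, act⟩ := nil.exists_one h E F B hB c.pat
  obtain ⟨y₀, rfl⟩ := E.ex (subset_closure hy)
  obtain ⟨r₀, rfl⟩ := E.ex hrc
  obtain ⟨y₁, hy₁⟩ := E.ex (subset_closure hy')
  rw [← hy₁] at hs hy'
  have b01 : β y₀ y₁ = 1 := (F.swp hy).2 hs
  have b10 : β y₁ y₀ = 1 := by rw [F.symm, b01]
  have hr' : ι r₀ ∈ RZ Om (ι y₁) := by
    have h1 := RZ_conj h x hr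
    rwa [hxr, mul_inv_cancel_right, ← hy₁] at h1
  have b1r : β y₁ r₀ = 0 := F.perp nil h hy' hr'
  have b0r : β y₀ r₀ = 0 := F.perp nil h hy hr
  have hr0 : r₀ ≠ 0 := fun h1 => hr1 (by rw [h1, E.zero])
  have hry0 : r₀ ≠ y₀ := fun h1 => hry (by rw [h1])
  obtain ⟨K, hK, k, hk, -, hact⟩ := act y₀ hy ⟨y₁, b01⟩ r₀ ((hB _ _).2 hr) hr0 hry0
  have m1 : k * ι y₁ * k⁻¹ = ι (y₁ + (r₀ + y₀)) := by
    rw [hact, sg, b10, b1r]; simp
  have m2 : k * ι r₀ * k⁻¹ = ι r₀ := by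
    rw [hact, sg, F.symm r₀ y₀, b0r, F.alt]; simp
  have hmD : ι (y₁ + (r₀ + y₀)) ∈ D := by
    rw [← m1]; exact nil.nor _ hy k (hK.le_RZ hk) _ hy'
  -- `m` is fixed
  have hxm : x * ι (y₁ + (r₀ + y₀)) = ι (y₁ + (r₀ + y₀)) * x := by
    have e1 : x * ι y₁ * x⁻¹ = ι y₀ := by
      rw [hy₁, hx']
      calc x * (x * ι y₀ * x) * x = (x * x) * ι y₀ * (x * x) := by group
        _ = _ := by rw [hxx, one_mul, mul_one]
    have e2 : x * ι r₀ * x⁻¹ = ι r₀ := by rw [hxr, mul_inv_cancel_right]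
    have e3 : x * ι (y₁ + (r₀ + y₀)) * x⁻¹ = ι (y₁ + (r₀ + y₀)) := by
      rw [E.add, E.add]
      calc x * (ι y₁ * (ι r₀ * ι y₀)) * x⁻¹ = (x * ι y₁ * x⁻¹) * ((x * ι r₀ * x⁻¹) * (x * ι y₀ * x⁻¹)) := by group
        _ = ι y₀ * (ι r₀ * ι y₁) := by rw [e1, e2, hy₁]
        _ = _ := by
          rw [← E.add, ← E.add, ← E.add, ← E.add]
          congr 1
          abel
    rw [mul_inv_eq_iff_eq_mul] at e3
    exact e3
  have bm0 : β (y₁ + (r₀ + y₀)) y₀ = 1 := by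
    rw [F.addl, F.addl, b10, F.symm r₀, b0r, F.alt]; rfl
  have hsm : Swp Om (ι (y₁ + (r₀ + y₀))) (ι y₀) := (F.swp hmD).1 bm0
  have h1 := swp_comm_cx h hsm (E.sq nil h y₀) hxm
    (fun K hK k hk => c.comm_qq hmD hxm hy hsm hK hk) (nil.inZ _ hmD)
  -- `r = y y' m` centralises `R_m`
  have h2 : ι r₀ ∈ CX Om (ι (y₁ + (r₀ + y₀))) := by
    have e1 : ι y₀ * x * (ι y₀)⁻¹ * x⁻¹ = ι (y₀ + y₁) := by
      have e0 : (ι y₀)⁻¹ = ι y₀ := inv_eq_of_mul_eq_one_right (E.sq nil h y₀)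
      rw [E.add, hy₁, e0]; group
    rw [e1] at h1
    have e2 : ι r₀ = ι (y₀ + y₁) * ι (y₁ + (r₀ + y₀)) := by
      rw [← E.add]
      congr 1
      have two := E.two nil h
      calc r₀ = r₀ + (y₀ + y₀) + (y₁ + y₁) := by rw [two, two, add_zero, add_zero]
        _ = _ := by abel
    rw [e2]
    exact mul_mem h1 (z_mem_CX h)
  have h3 : ι r₀ ∈ CX Om (ι y₁) := by
    rw [← CX_conj h k, m1, m2]; exact h2
  rcases RZ_CX h (nil.inZ _ hy') hr' h3 with h4 | h4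
  · exact hr1 h4
  · have := E.inj h4
    rw [this, b01] at b0r
    exact absurd b0r (by decide)

/-- swap partners of fixed elements are fixed -/
theorem fix_swp (hw : w ∈ D) (hxw : x * w = w * x) (hy : y ∈ D) (hs : Swp Om w y) : x * y = y * x := by
  have h := c.h
  have nil := c.nil
  obtain ⟨N, _, _, ι, E⟩ := nil.exists_emb
  obtain ⟨β, F⟩ := nil.exists_form h E
  obtain ⟨B, hB⟩ : ∃ B : N → AddSubgroup N, ∀ b x, x ∈ B b ↔ ι x ∈ RZ Om (ι b) := by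
    refine ⟨fun b =>
      { carrier := {x | ι x ∈ RZ Om (ι b)}
        add_mem' := ?_
        zero_mem' := ?_
        neg_mem' := ?_ }, fun b x => Iff.rfl⟩
    · intro x y hx hy
      show ι (x + y) ∈ RZ Om (ι b)
      rw [E.add]; exact mul_mem hx hy
    · show ι 0 ∈ RZ Om (ι b)
      rw [E.zero]; exact one_mem _
    · intro x hx
      show ι (-x) ∈ RZ Om (ι b)
      rw [E.neg]; exact inv_mem hx
  obtain ⟨one, act⟩ := nil.exists_one h E F B hB c.pat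
  obtain ⟨w₀, rfl⟩ := E.ex (subset_closure hw)
  obtain ⟨y₀, rfl⟩ := E.ex (subset_closure hy)
  have bwy : β w₀ y₀ = 1 := (F.swp hw).2 hs
  have byw : β y₀ w₀ = 1 := by rw [F.symm, bwy]
  have hwS : w₀ ∈ {b | ι b ∈ D ∧ ∃ w, β b w = 1} := ⟨hw, y₀, bwy⟩
  have hyS : y₀ ∈ {b | ι b ∈ D ∧ ∃ w, β b w = 1} := ⟨hy, w₀, byw⟩
  obtain ⟨a₁, a₂, a₃, ta⟩ := one.exists_tri hwS bwy
  obtain ⟨b₁, b₂, b₃, tb⟩ := one.exists_tri hyS byw
  -- `r = a₁ + a₂`
  have hrB : a₁ + a₂ ∈ B w₀ := add_mem ta.m₁ ta.m₂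
  have byr : β y₀ (a₁ + a₂) = 0 := by rw [F.addr, ta.w₁, ta.w₂]; decide
  have hr0 : a₁ + a₂ ≠ 0 := by
    intro h1
    have h2 : β (a₁ + a₂) a₂ = 1 := by rw [F.addl, ta.c₁₂, F.alt]; rfl
    rw [h1, F.symm, F.zr] at h2
    exact absurd h2 (by decide)
  have bwr : β w₀ (a₁ + a₂) = 0 := F.perp nil h hw ((hB _ _).1 hrB)
  have hxr : x * ι (a₁ + a₂) = ι (a₁ + a₂) * x := c.comm_of_mem hw hxw ((hB _ _).1 hrB) (E.cl _)
  have ne1 : ∀ {n : N}, n ≠ 0 → ι n ≠ 1 := fun hn h1 => hn (E.inj (by rw [h1, E.zero]))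
  rcases one.pat hwS hyS bwy with h1 | h1
  · refine c.fix hy ((hB _ _).1 (h1 _ hrB byr)) (E.cl _) (ne1 hr0) (fun h2 => ?_) hxr
    rw [E.inj h2, bwy] at bwr
    exact absurd bwr (by decide)
  · obtain ⟨n0, n1⟩ := tb.ne₁ one hyS
    obtain ⟨K, hK, k, hk, -, hact⟩ := act y₀ hy ⟨w₀, byw⟩ b₁ tb.m₁ n0 n1
    have hbr : β (a₁ + a₂) b₁ = 0 := h1 _ hrB byr _ tb.m₁
    have e1 : k * ι w₀ * k⁻¹ = ι (w₀ + b₁) := by rw [hact, tb.s₁ one hyS]
    have e2 : k * ι (a₁ + a₂) * k⁻¹ = ι (a₁ + a₂) := by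
      rw [hact, sg, F.symm _ y₀, byr, hbr, sm_zero, sm_zero, add_zero, add_zero]
    have hw1 : ι (w₀ + b₁) ∈ D := by rw [← e1]; exact nil.nor _ hy k (hK.le_RZ hk) _ hw
    have hr1 : ι (a₁ + a₂) ∈ RZ Om (ι (w₀ + b₁)) := by
      have h3 := RZ_conj h k ((hB _ _).1 hrB)
      rwa [e1, e2] at h3
    have hxw1 : x * ι (w₀ + b₁) = ι (w₀ + b₁) * x := by
      refine c.fix hw1 hr1 (E.cl _) (ne1 hr0) (fun h2 => ?_) hxr
      rw [E.inj h2, F.addr, F.alt, tb.w₁] at bwr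
      exact absurd bwr (by decide)
    have hxb : x * ι b₁ = ι b₁ * x := by
      have h3 : ι b₁ = ι w₀ * ι (w₀ + b₁) := by
        rw [← E.add, ← add_assoc, E.two nil h, zero_add]
      rw [h3, ← mul_assoc, hxw, mul_assoc, hxw1, mul_assoc]
    exact c.fix hy ((hB _ _).1 tb.m₁) (E.cl _) (ne1 n0) (fun h2 => n1 (E.inj h2)) hxb

/-- type I partners of fixed elements are fixed -/
theorem fix_ti (hw : w ∈ D) (hxw : x * w = w * x) (hy : y ∈ D) (hti : TI Om w y) : x * y = y * x := by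
  by_contra hne
  have h := c.h
  have nil := c.nil
  have hs := c.swp hy hne
  have hv := c.nor y hy
  obtain ⟨v, hvd⟩ : ∃ v, v = x * y * x⁻¹ := ⟨_, rfl⟩
  rw [← hvd] at hs hv
  have hcom : ∀ {a b : G}, a ∈ D → b ∈ D → a * b = b * a := fun ha hb => nil.comm _ ha _ hb
  obtain ⟨v', hv', hs1, hs2⟩ : ∃ v' ∈ D, Swp Om w v' ∧ Swp Om y v' := by
    by_cases hsw : Swp Om w v
    · exact ⟨v, hv, hsw, hs⟩
    obtain ⟨L, hL⟩ := hti.inT
    obtain ⟨κ, hκ, -, hκy, hκw⟩ := hti.exists_mv h hL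
    have hv' : κ * v * κ⁻¹ ∈ D := nil.nor y hy κ (hL.le_RZ hκ) v hv
    have hwy : w * y ∈ D := by rw [← hκw]; exact nil.nor y hy κ (hL.le_RZ hκ) w hw
    have e1 : sI Om y (κ * v * κ⁻¹) = 1 := by
      have h1 := sI_conj (Om := Om) (z := y) (g := v) h κ
      rw [hκy, mul_inv_cancel_right] at h1
      rw [h1]; exact sI_eq_one.2 hs
    have e2 : sI Om (w * y) (κ * v * κ⁻¹) = 0 := by
      rw [← hκw, sI_conj h κ]
      exact sI_eq_zero.2 hsw
    have e3 : sI Om w (κ * v * κ⁻¹) = 1 := by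
      rw [nil.sI_symm h hwy hv', sI_mul h (nil.inZ _ hv') (hcom hw hv') (hcom hy hv'),
        nil.sI_symm h hv' hw, nil.sI_symm h hv' hy, e1] at e2
      have key : ∀ s : ZMod 2, s + 1 = 0 → s = 1 := by decide
      exact key _ e2
    exact ⟨_, hv', sI_eq_one.1 e3, sI_eq_one.1 e1⟩
  have h1 := c.fix_swp hw hxw hv' hs1
  refine hne (c.fix_swp hv' h1 hy ?_)
  rw [← sI_eq_one, nil.sI_symm h hv' hy]
  exact sI_eq_one.2 hs2

/-- `w` fixed, `y` not a C-partner of `w` : `y` is fixed -/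
theorem all (hw : w ∈ D) (hxw : x * w = w * x) (hy : y ∈ D) (hne : w ≠ y) (hc : ¬ CP Om w y) : x * y = y * x := by
  rcases tri c.h (c.nil.inZ w hw) (c.nil.inZ y hy) hne (c.nil.comm w hw y hy) with h1 | h1 | ⟨h1, -⟩
  · exact absurd h1 hc
  · exact c.fix_ti hw hxw hy h1
  · rcases h1.cases with h2 | h2
    · exact c.fix_swp hw hxw hy h2
    · exact absurd h2 (c.nil.not_ff c.h hw (subset_closure hy))

end CW

/-- (111) in `Z(s)`, from the rotations in `C(T)` -/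
theorem pat1_ZS (h : WM Om) (l0 : L0 Om) (ant : ANT Om) (rot : ∀ S : Sylow 2 G, RotS Om (S : Subgroup G))
    (S : Sylow 2 G) (hs : s ∈ TT Om (S : Subgroup G)) (hs1 : s ≠ 1) : Pat1 Om (ZS Om s) := by
  refine (nilS_ZS' h l0 (ant S s hs hs1)).pat1_of_rot h fun b hb _ => ?_
  obtain ⟨P, hsP, hbP, -, -⟩ := exists_psi h S hs hb hb.1 (ZS_comm_s h hb).symm rfl
  obtain ⟨K, hK⟩ := hb.1
  obtain ⟨c, hc, hcT⟩ := rot P b K hK (CS.le hbP h hK)
  refine ⟨c, fun d hd => ZS_conj h hd (hcT s hsP), K, hK, hc.1, fun k hk hkk hcom => ?_⟩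
  have hck : c * k * c⁻¹ ∈ K := by
    have := conj_mem_cj (g := c) hk
    rwa [hc.1] at this
  obtain ⟨h1, h2⟩ := hc.2 k hk hkk
  have hcb : c * b = b * c := hK.of_cj h hc.1
  have hckk : (c * k * c⁻¹) * (c * k * c⁻¹) = b := by
    calc (c * k * c⁻¹) * (c * k * c⁻¹) = c * (k * k) * c⁻¹ := by group
      _ = b := by rw [hkk, hcb, mul_inv_cancel_right]
  rcases hK.of_comm h hk hkk hck hcom with h3 | h3 | h3 | h3
  · rw [h3, one_mul] at hckk
    exact hb.1.z1 h hckk.symm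
  · rw [h3, hb.1.z2 h] at hckk
    exact hb.1.z1 h hckk.symm
  · exact h1 h3
  · exact h2 h3

/-- **CENT in world SW** -/
theorem cent_sw (h : WM Om) (l0 : L0 Om) (ant : ANT Om) (rot : ∀ S : Sylow 2 G, RotS Om (S : Subgroup G))
    (reg : RegSW Om) : CENT Om := by
  intro S x hx hxS s hs hs1 y hy
  have hxs : x * s = s * x := comm_TT_of_NCS h l0 S.isPGroup' hx hxS hs
  have cw : CW Om (ZS Om s) x := {
    h := h
    l0 := l0
    nil := nilS_ZS' h l0 (ant S s hs hs1)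
    pat := pat1_ZS h l0 ant rot S hs hs1
    inZ := hx
    nor := fun y hy => ZS_conj h hy hxs
    reg := fun w hw hxw => by
      obtain ⟨P, hsP, hwP, -, hpsi⟩ := exists_psi h S hs hw hx hxs hxw
      obtain ⟨B, h1, h2, h3⟩ := reg P w hwP
      exact ⟨B, h1, h2, h3 x hpsi.1 hpsi.2, fun y hy =>
        have hyP := Psi.of_ZS h l0 ant P hsP hs1 hy
        h3 y hyP.1 hyP.2⟩ }
  by_contra hne
  have hyS : y ∉ CS Om (S : Subgroup G) := fun h1 => hne (comm_CS_of_NCS h l0 S.isPGroup' hx hxS h1)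
  obtain ⟨w, hw, hwy, hcp⟩ := exists_ncp h S hy.1 hyS
  exact hne (cw.all (CS_subset_ZS h S.isPGroup' hs hw) (comm_CS_of_NCS h l0 S.isPGroup' hx hxS hw) hy hwy hcp)

end Fin

end Cfsg.Agent.Cit.Nil.RTwoM
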