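import Cfsg.Agent.Cit.Nil.RTwoM.MThree.Fin
import Cfsg.Agent.Cit.Nil.RTwoM.URegOf
import Cfsg.Agent.Cit.Nil.RTwoM.UEnd
import Cfsg.Agent.Cit.Nil.RTwoM.U.UCent
import Cfsg.Agent.Cit.Nil.RTwoM.U.NsTwo
import Cfsg.Agent.Cit.Nil.RTwoM.UCaseTwo

/-!
# S1309, (6b), (C3), `r = 2`, any `m ≥ 2`: `LAMBDA0 ⟹ StarC`, the case distinction

* `rotS_of` : `|C_S| ≤ 3`: rotations in `C(T_S)`; `cent_of_le` : `|C_S| ≤ 3`, world SW: `CENT`;
* **`starC_of_l0`** : `WM, L0, ANT, ANS, OneCl, C3R`, a C-pair: `StarC`.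
-/

set_option autoImplicit false
set_option linter.style.haveILetI false
set_option linter.unusedSectionVars false

namespace Cfsg.Agent.Cit.Nil.RTwoM

open Subgroup Cfsg Cfsg.Agent.Cit
open RG (WR CP Ov InO)
open RI (CS)

variable {G : Type*} [Group G] [Finite G] {Om : Set (Subgroup G)} {s t u v w x y z : G}

theorem rotS_of (h : WM Om) (c3 : C3R Om) (hm : ∀ S : Sylow 2 G, (CS Om (S : Subgroup G)).ncard ≤ 3) :
    ∀ S : Sylow 2 G, RotS Om (S : Subgroup G) := fun S _ _ hK hKS => c3.exists_cent h S (hm S) hK hKS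

theorem NSW.of_not (hn : ¬ SW Om) : NSW Om := fun S s hs hs1 y hy y' hy' hsw =>
  hn ⟨S, s, hs, hs1, y, hy, y', hy', hsw⟩

theorem exists_two_of (S : Sylow 2 G) (h2 : 2 ≤ (CS Om (S : Subgroup G)).ncard) :
    ∃ z u, z ∈ CS Om (S : Subgroup G) ∧ u ∈ CS Om (S : Subgroup G) ∧ z ≠ u := by
  obtain ⟨z, hz, u, hu, hne⟩ := (Set.one_lt_ncard (Set.toFinite _)).1 (show 1 < (CS Om (S : Subgroup G)).ncard by omega)
  exact ⟨z, u, hz, hu, hne⟩

/-- **`LAMBDA0 ⟹ StarC`** -/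
theorem starC_of_l0 (h : WM Om) (l0 : L0 Om) (an : ANT Om) (as : ANS Om) (oc : OneCl Om) (c3 : C3R Om)
    (hz : InZ Om z) (hu : InZ Om u) (hc : CP Om z u) : StarC Om := by
  obtain ⟨S₀, hzS, huS⟩ := exists_sylow_of_cp h hz hu hc
  have hm0 : 2 ≤ (CS Om (S₀ : Subgroup G)).ncard := by
    have h1 : ({z, u} : Set G) ⊆ CS Om (S₀ : Subgroup G) := by
      rintro w (rfl | hw)
      · exact hzS
      · rw [Set.mem_singleton_iff] at hw
        rw [hw]; exact huS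
    have h2 := Set.ncard_le_ncard h1 (Set.toFinite _)
    rwa [Set.ncard_pair hc.1] at h2
  have hmS : ∀ S : Sylow 2 G, (CS Om (S : Subgroup G)).ncard = (CS Om (S₀ : Subgroup G)).ncard :=
    fun S => ncard_CS_eq h S₀ S
  have hTS : ∀ S : Sylow 2 G, Nat.card (TT Om (S : Subgroup G)) = Nat.card (TT Om (S₀ : Subgroup G)) :=
    fun S => card_TT_eq h S₀ S
  have two : ∀ S : Sylow 2 G, ∃ z u, z ∈ CS Om (S : Subgroup G) ∧ u ∈ CS Om (S : Subgroup G) ∧ z ≠ u :=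
    fun S => exists_two_of S (by rw [hmS S]; exact hm0)
  rcases Nat.lt_or_ge (CS Om (S₀ : Subgroup G)).ncard 4 with h3 | h4
  swap
  · exact StarC.of_four h l0 an as (c3.c3e h) (fun S => by rw [hmS S]; exact h4)
  have rot := rotS_of h c3 (fun S => by rw [hmS S]; omega)
  have r0 := RZero.of h l0 an two
  have r1 := ROneA.of h l0 an
  by_cases sw : SW Om
  · have ce : CENT Om := cent_sw h l0 an rot (regSW_of h l0 an oc two rot sw)
    exact StarC.of_r0 ce r0 r1 h oc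
  have ns := NSW.of_not sw
  by_cases h5 : (CS Om (S₀ : Subgroup G)).ncard = 2
  · exact StarC.of_r0 (ns.cent h l0 an rot fun S => by rw [hmS S]; exact h5) r0 r1 h oc
  by_cases h6 : Nat.card (TT Om (S₀ : Subgroup G)) = 4
  · exact starC_three h l0 an as oc c3 (fun S => by rw [hmS S]; omega) (fun S => by rw [hTS S]; exact h6)
  · refine ns.starC h l0 an fun S => ?_
    rw [hTS S]
    have h7 := four_le_card_TT h hzS huS hc.1
    omega

end Cfsg.Agent.Cit.Nil.RTwoM
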