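import Cfsg.Agent.Cit.Nil.RTwoM.JArg

/-!
# S1309, (6b), (C3), `r = 2`, any `m`, `LAMBDA0`: LEMMA SWP (section 5.2 of helper762's text)

`(c, y)` of type I; `a`, `a'` the actions of `y` on the members `K`, `K'` over `c`.
* `TI.eq_of_fix` : `b ∈ K`, `b' ∈ K'` of order 4 not commuting with `a`, `a'`, and `b b'` normalises a member `L` over
  `y`: then `y ∈ {a a', c a a'}`;
* **`TI.mem_RZ_of_fix`** : `w ∈ R_c` acts on `R_c` as `y`, `g ∈ R_c` has full support, `[g, w] = 1`, `g ∉ {w, c w}`, and `g`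
  normalises a member over `y`: then `y ∈ R_c`;
* `TI.mem_RZ_of_inn` : the same if `g` is inner at `y`.
-/

set_option autoImplicit false
set_option linter.style.haveILetI false
set_option linter.unusedSectionVars false

namespace Cfsg.Agent.Cit.Nil.RTwoM

open Subgroup Cfsg Cfsg.Agent.Cit

variable {G : Type*} [Group G] {Om : Set (Subgroup G)} {K K' L : Subgroup G}
  {a a' b b' c g l w y : G}

section Fin

variable [Finite G]

/-- **LEMMA SWP**, in coordinates -/
theorem TI.eq_of_fix (hti : TI Om c y) (h : WM Om) (hK : Mem Om c K) (hK' : Mem Om c K') (hne : K ≠ K')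
    (hL : Mem Om y L) (ha : As K y a) (ha' : As K' y a') (hb : b ∈ K) (hbb : b * b = c) (hab : a * b ≠ b * a)
    (hb' : b' ∈ K') (hbb' : b' * b' = c) (hab' : a' * b' ≠ b' * a') (hg : cj (b * b') L = L) :
    y = a * a' ∨ y = c * (a * a') := by
  obtain ⟨l, hl, -⟩ := (hti.symm h).exists_as h hL
  have haa := hti.sq_of_as h hK ha
  have haa' := hti.sq_of_as h hK' ha'
  obtain ⟨-, -, r1⟩ := (hti.symm h).rot h hL hK hl ha
  obtain ⟨-, -, r2⟩ := (hti.symm h).rot h hL hK' hl ha'
  have hcc := hti.inZ.z2 h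
  have c1 : a' * b = b * a' := (hK.comm hK' h hne hb ha'.1).symm
  have c2 : a * a' = a' * a := hK.comm hK' h hne ha.1 ha'.1
  have c3 : a * c = c * a := hK.comm_z h ha.1
  have c4 : b * c = c * b := hK.comm_z h hb
  have e0 : l * (b * b') * l⁻¹ * (b * b')⁻¹ = (l * b * l⁻¹) * (l * b' * l⁻¹) * b'⁻¹ * b⁻¹ := by group
  have key : l * (b * b') * l⁻¹ * (b * b')⁻¹ = a * a' ∨ l * (b * b') * l⁻¹ * (b * b')⁻¹ = c * (a * a') := by
    rw [e0]
    rcases r1 b hb hbb hab with h1 | h1 <;> rcases r2 b' hb' hbb' hab' with h2 | h2 <;> rw [h1, h2]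
    · left
      calc a * b * (a' * b') * b'⁻¹ * b⁻¹ = a * (b * a') * b⁻¹ := by group
        _ = a * a' := by rw [← c1]; group
    · right
      calc a * b * (c * (a' * b')) * b'⁻¹ * b⁻¹ = a * (b * c) * a' * b⁻¹ := by group
        _ = (a * c) * (b * a') * b⁻¹ := by rw [c4]; group
        _ = c * (a * a') := by rw [c3, ← c1]; group
    · right
      calc c * (a * b) * (a' * b') * b'⁻¹ * b⁻¹ = c * a * (b * a') * b⁻¹ := by group
        _ = c * (a * a') := by rw [← c1]; group
    · left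
      calc c * (a * b) * (c * (a' * b')) * b'⁻¹ * b⁻¹ = c * a * (b * c) * a' * b⁻¹ := by group
        _ = c * (a * c) * (b * a') * b⁻¹ := by rw [c4]; group
        _ = (c * c) * (a * a') := by rw [c3, ← c1]; group
        _ = a * a' := by rw [hcc, one_mul]
  obtain ⟨e, he⟩ : ∃ e, e = l * (b * b') * l⁻¹ * (b * b')⁻¹ := ⟨_, rfl⟩
  rw [← he] at key
  have heL : e ∈ L := by
    have h1 : (b * b') * l⁻¹ * (b * b')⁻¹ ∈ L := by
      have := conj_mem_cj (g := b * b') (inv_mem hl.1)
      rwa [hg] at this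
    have h2 : e = l * ((b * b') * l⁻¹ * (b * b')⁻¹) := by rw [he]; group
    rw [h2]
    exact mul_mem hl.1 h1
  have haa2 : (a * a') * (a * a') = 1 := by
    calc (a * a') * (a * a') = a * (a' * a) * a' := by group
      _ = (a * a) * (a' * a') := by rw [← c2]; group
      _ = 1 := by rw [haa, haa', hcc]
  have c5 : (a * a') * c = c * (a * a') := by
    rw [mul_assoc, hK'.comm_z h ha'.1, ← mul_assoc, c3, mul_assoc]
  have hee : e * e = 1 := by
    rcases key with h1 | h1 <;> rw [h1]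
    · exact haa2
    · calc c * (a * a') * (c * (a * a')) = c * ((a * a') * c) * (a * a') := by group
        _ = (c * c) * ((a * a') * (a * a')) := by rw [c5]; group
        _ = 1 := by rw [hcc, haa2, mul_one]
  have hna : ¬ (a = 1 ∨ a = c) := by
    rintro (h1 | h1)
    · rw [h1, one_mul] at haa; exact hti.inZ.z1 h haa.symm
    · rw [h1, hcc] at haa; exact hti.inZ.z1 h haa.symm
  rcases hL.sq_cases h heL with h1 | h1 | h1
  · exfalso
    apply hna
    refine hK.inf hK' h hne ha.1 ?_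
    rcases key with h2 | h2
    · have h3 : a * a' = 1 := by rw [← h2, h1]
      rw [eq_inv_of_mul_eq_one_left h3]
      exact inv_mem ha'.1
    · have h3 : c * (a * a') = 1 := by rw [← h2, h1]
      have h4 : a = c⁻¹ * a'⁻¹ := by
        rw [eq_mul_inv_iff_mul_eq, eq_inv_iff_mul_eq_one, c5, h3]
      rw [h4]
      exact mul_mem (inv_mem (hK'.zmem h)) (inv_mem ha'.1)
  · rw [h1] at key; exact key
  · exfalso
    rw [hee] at h1
    exact hti.inT.z1 h h1.symm

/-- **LEMMA SWP** : `w ∈ R_c` acts on `R_c` as `y` (up to inversion), `g ∈ R_c` of full support, `[g, w] = 1`, `g ∉ {w, c w}`,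
`g` normalises a member over `y` -/
theorem TI.mem_RZ_of_fix (hti : TI Om c y) (h : WM Om) (hw : w ∈ RZ Om c) (hyw : y * w ∈ CX Om c)
    (hg : g ∈ RZ Om c) (hgc : ∀ K, Mem Om c K → ¬ As K g 1) (hgw : g * w = w * g) (hne : g ≠ w) (hne' : g ≠ c * w)
    (hL : Mem Om y L) (hgL : cj g L = L) : y ∈ RZ Om c := by
  obtain ⟨K, hK⟩ := hti.inZ
  obtain ⟨K', hK', hKK, -⟩ := hK.other h
  have hcc := hti.inZ.z2 h
  obtain ⟨b, hb, b', hb', rfl⟩ := (mem_RZ hK hK' h hKK).1 hg
  obtain ⟨w1, hw1, w2, hw2, rfl⟩ := (mem_RZ hK hK' h hKK).1 hw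
  have gb : As K (b * b') b := by
    have := (As.self hb).mul (hK.as_one hK' h hKK hb')
    rwa [mul_one] at this
  have gb' : As K' (b * b') b' := by
    have := (hK'.as_one hK h hKK.symm hb).mul (As.self hb')
    rwa [one_mul] at this
  have ww : As K (w1 * w2) w1 := by
    have := (As.self hw1).mul (hK.as_one hK' h hKK hw2)
    rwa [mul_one] at this
  have ww' : As K' (w1 * w2) w2 := by
    have := (hK'.as_one hK h hKK.symm hw1).mul (As.self hw2)
    rwa [one_mul] at this
  have ya : As K y w1⁻¹ := by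
    have h1 := (As.one_iff.2 (mem_CX.1 hyw K hK)).mul ww.inv
    rwa [mul_inv_cancel_right, one_mul] at h1
  have ya' : As K' y w2⁻¹ := by
    have h1 := (As.one_iff.2 (mem_CX.1 hyw K' hK')).mul ww'.inv
    rwa [mul_inv_cancel_right, one_mul] at h1
  have sq : ∀ {M : Subgroup G} {b g : G}, Mem Om c M → As M g b → ¬ As M g 1 → b ∈ M → b * b = c := by
    intro M b g hM h1 h2 h3
    rcases hM.sq_cases h h3 with h4 | h4 | h4
    · rw [h4] at h1; exact absurd h1 h2
    · exfalso
      apply h2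
      rw [h4] at h1
      refine As.one_iff.2 fun k hk => ?_
      have h5 := h1.2 k hk
      rw [← hM.comm_z h hk, mul_inv_cancel_right, mul_inv_eq_iff_eq_mul] at h5
      exact h5
    · exact h4
  have hbb := sq hK gb (hgc K hK) hb
  have hbb' := sq hK' gb' (hgc K' hK') hb'
  have wa := hti.sq_of_as h hK ya
  have wa' := hti.sq_of_as h hK' ya'
  have inv2 : ∀ {w : G}, w⁻¹ * w⁻¹ = c → w * w = c := by
    intro w hw
    have h1 : (w * w)⁻¹ = c := by rw [mul_inv_rev]; exact hw
    rw [← inv_inv (w * w), h1, hti.inZ.inv h]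
  have hww := inv2 wa
  have hww' := inv2 wa'
  have cbw : b' * w1 = w1 * b' := (hK.comm hK' h hKK hw1 hb').symm
  have cwb : w2 * b = b * w2 := (hK.comm hK' h hKK hb hw2).symm
  have h1 : (b * w1) * (b' * w2) = (w1 * b) * (w2 * b') := by
    calc (b * w1) * (b' * w2) = b * (w1 * b') * w2 := by group
      _ = b * b' * (w1 * w2) := by rw [← cbw]; group
      _ = w1 * w2 * (b * b') := hgw
      _ = w1 * (w2 * b) * b' := by group
      _ = (w1 * b) * (w2 * b') := by rw [cwb]; group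
  have h2 : (w1 * b)⁻¹ * (b * w1) = (w2 * b') * (b' * w2)⁻¹ := by
    rw [eq_mul_inv_iff_mul_eq, mul_assoc, h1, inv_mul_cancel_left]
  have hno : w1 * b = b * w1 → False := by
    intro h3
    have h4 : w2 * b' = b' * w2 := by
      rw [h3, inv_mul_cancel] at h2
      exact (mul_inv_eq_one.1 h2.symm)
    have h5 : b = w1 ∨ b = c * w1 := by
      rcases hK.of_comm h hw1 hww hb h3 with h5 | h5 | h5 | h5
      · exfalso; rw [h5, one_mul] at hbb; exact hti.inZ.z1 h hbb.symm
      · exfalso; rw [h5, hcc] at hbb; exact hti.inZ.z1 h hbb.symm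
      · exact Or.inl h5
      · exact Or.inr h5
    have h6 : b' = w2 ∨ b' = c * w2 := by
      rcases hK'.of_comm h hw2 hww' hb' h4 with h5 | h5 | h5 | h5
      · exfalso; rw [h5, one_mul] at hbb'; exact hti.inZ.z1 h hbb'.symm
      · exfalso; rw [h5, hcc] at hbb'; exact hti.inZ.z1 h hbb'.symm
      · exact Or.inl h5
      · exact Or.inr h5
    have hwc : w1 * c = c * w1 := hK.comm_z h hw1
    rcases h5 with h5 | h5 <;> rcases h6 with h6 | h6 <;> rw [h5, h6] at hne hne'
    · exact hne rfl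
    · exact hne' (by rw [← mul_assoc, hwc, mul_assoc])
    · exact hne' (by rw [mul_assoc])
    · apply hne
      calc c * w1 * (c * w2) = c * (w1 * c) * w2 := by group
        _ = (c * c) * w1 * w2 := by rw [hwc]; group
        _ = w1 * w2 := by rw [hcc, one_mul]
  have hno' : w2 * b' = b' * w2 → False := by
    intro h3
    rw [h3, mul_inv_cancel] at h2
    exact hno (inv_mul_eq_one.1 h2)
  have inc : ∀ {w b : G}, w⁻¹ * b = b * w⁻¹ → w * b = b * w := by
    intro w b h3
    calc w * b = w * (b * w⁻¹) * w := by group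
      _ = w * (w⁻¹ * b) * w := by rw [h3]
      _ = b * w := by group
  have h3 := hti.eq_of_fix h hK hK' hKK hL ya ya' hb hbb (fun h4 => hno (inc h4)) hb' hbb' (fun h4 => hno' (inc h4)) hgL
  have h4 : w1⁻¹ * w2⁻¹ ∈ RZ Om c := mul_mem (inv_mem (hK.le_RZ hw1)) (inv_mem (hK'.le_RZ hw2))
  rcases h3 with h3 | h3
  · rw [h3]; exact h4
  · rw [h3]; exact mul_mem (z_mem_RZ hti.inZ h) h4

/-- LEMMA SWP for `g` inner at `y` -/
theorem TI.mem_RZ_of_inn (hti : TI Om c y) (h : WM Om) (hw : w ∈ RZ Om c) (hyw : y * w ∈ CX Om c)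
    (hg : g ∈ RZ Om c) (hgc : ∀ K, Mem Om c K → ¬ As K g 1) (hgw : g * w = w * g) (hne : g ≠ w) (hne' : g ≠ c * w)
    (hgi : Inn Om y g) : y ∈ RZ Om c := by
  obtain ⟨L, hL⟩ := hti.inT
  exact hti.mem_RZ_of_fix h hw hyw hg hgc hgw hne hne' hL (hgi.cj_eq hL h)

end Fin

end Cfsg.Agent.Cit.Nil.RTwoM
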